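import Groth.Prelude.Def_MultCurve
import Groth.Agent.Divis.IdealComap
import Groth.Agent.Flat2C.AffineThickening

/-!
# Primitive multiple structures: topology, surjectivity over a square-zero ideal
-/

set_option autoImplicit false

universe u

open CategoryTheory CategoryTheory.Limits AlgebraicGeometry

namespace K953.MultBasic

/-- A closed immersion with nilpotent kernel ideal sheaf is surjective. -/
theorem surjective_of_ker_pow {D C : Scheme.{u}} (i : D ⟶ C) [IsClosedImmersion i] (n : ℕ)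
    (h : i.ker ^ n = ⊥) : Surjective i := by
  refine ⟨fun x => ?_⟩
  rcases Nat.eq_zero_or_pos n with rfl | hn
  · have h1 : (⊤ : C.IdealSheafData) = ⊥ := by
      rw [← h, pow_zero]; rfl
    have h2 : (⊤ : C.IdealSheafData).support = (⊥ : C.IdealSheafData).support := by rw [h1]
    have : x ∈ ((⊥ : C.IdealSheafData).support : Set C) := trivial
    rw [← h2] at this
    exact absurd this (by simp)
  · have h1 : (i.ker.support : Set C) = Set.univ := by
      rw [← Scheme.IdealSheafData.support_pow i.ker n hn.ne', h]; rfl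
    have h2 : closure (Set.range i) = Set.univ := by
      rw [← Scheme.Hom.support_ker]; exact h1
    have h3 : Set.range i = Set.univ := by
      rw [← h2, IsClosed.closure_eq (i.isClosedEmbedding.isClosed_range)]
    exact h3.ge (Set.mem_univ x)

/-- Surjectivity of a ring map from surjectivity modulo an extended square-zero ideal. -/
theorem surjective_of_sqzero {R S : Type*} [CommRing R] [CommRing S] (φ : R →+* S) (J : Ideal R)
    (I : Ideal S) (hI : J.map φ = I) (h2 : I ^ 2 = ⊥) (hs : ∀ s, ∃ r, s - φ r ∈ I) :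
    Function.Surjective φ := by
  have key : ∀ x ∈ I, ∃ r, φ r = x := by
    intro x hx
    rw [← hI] at hx
    refine Submodule.span_induction (p := fun x _ => ∃ r, φ r = x) ?_ ?_ ?_ ?_ hx
    · rintro _ ⟨a, _, rfl⟩
      exact ⟨a, rfl⟩
    · exact ⟨0, map_zero _⟩
    · rintro _ _ _ _ ⟨a, rfl⟩ ⟨b, rfl⟩
      exact ⟨a + b, map_add _ _ _⟩
    · rintro s x hx ⟨b, rfl⟩
      obtain ⟨r, hr⟩ := hs s
      refine ⟨r * b, ?_⟩
      have h3 : (s - φ r) * φ b ∈ I ^ 2 := by
        rw [pow_two]
        exact Ideal.mul_mem_mul hr (hI ▸ hx)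
      rw [h2, Ideal.mem_bot, sub_mul, sub_eq_zero] at h3
      rw [map_mul, smul_eq_mul, h3]
  intro s
  obtain ⟨r, hr⟩ := hs s
  obtain ⟨r', hr'⟩ := key _ hr
  exact ⟨r' + r, by rw [map_add, hr', sub_add_cancel]⟩

theorem isClosedImmersion_iff {D C X : Scheme.{u}} (i : D ⟶ C) [IsClosedImmersion i]
    (h2 : i.ker ^ 2 = ⊥) (f : C ⟶ X) :
    IsClosedImmersion f ↔ (IsClosedImmersion (i ≫ f) ∧ (i ≫ f).ker.comap f = i.ker) := by
  constructor
  · intro hf
    refine ⟨inferInstance, ?_⟩
    have hp : IsPullback i (𝟙 D) f (i ≫ f) := by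
      refine ⟨⟨by simp⟩, ⟨PullbackCone.IsLimit.mk _ (fun s => s.snd) (fun s => ?_) (fun s => ?_)
        (fun s m _ hm => ?_)⟩⟩
      · have := s.condition
        rw [← Category.assoc, cancel_mono f] at this
        exact this.symm
      · simp
      · simpa using hm
    have e1 : (pullback.fst f (i ≫ f)).ker = i.ker := by
      have e2 := Scheme.Hom.ker_comp_of_isIso hp.isoPullback.hom (pullback.fst f (i ≫ f))
      rw [hp.isoPullback_hom_fst] at e2
      exact e2.symm
    rw [← Scheme.IdealSheafData.ker_fst_of_isClosedImmersion (i ≫ f) f, e1]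
  · rintro ⟨h1, h3⟩
    have := surjective_of_ker_pow i 2 h2
    have : IsAffineHom f :=
      (Groth.Agent.Flat2C.AffineThickening.isAffineHom_iff_of_thickening i (𝟙 X) (i ≫ f) f
        (by simp)).1 inferInstance
    rw [isClosedImmersion_iff_isAffineHom]
    refine ⟨inferInstance, fun U hU => ?_⟩
    have hV : IsAffineOpen (f ⁻¹ᵁ U) := hU.preimage f
    have e1 : ((i ≫ f).ker.ideal ⟨U, hU⟩).map (f.app U).hom = i.ker.ideal ⟨f ⁻¹ᵁ U, hV⟩ := by
      rw [← h3, Groth.Agent.Divis.IdealComap.ideal_comap _ f ⟨U, hU⟩ ⟨f ⁻¹ᵁ U, hV⟩ le_rfl,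
        Scheme.Hom.app_eq_appLE]
    refine surjective_of_sqzero (f.app U).hom _ _ e1 ?_ fun s => ?_
    · have := congrArg (fun I : C.IdealSheafData => I.ideal ⟨f ⁻¹ᵁ U, hV⟩) h2
      simpa [Scheme.IdealSheafData.ideal_pow] using this
    · obtain ⟨r, hr⟩ := (i ≫ f).app_surjective U hU (i.app (f ⁻¹ᵁ U) s)
      refine ⟨r, ?_⟩
      rw [Scheme.Hom.ker_apply, RingHom.mem_ker, map_sub, sub_eq_zero, ← hr]
      simp only [Scheme.Hom.comp_app]
      rfl

end K953.MultBasic
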