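import Groth.Agent.CurvesC.DualRep
import Groth.Agent.CurvesC.DualEuler
import Groth.Agent.Surf.K461.LFHom
import Groth.Agent.Surf.K461.DualInv
import Groth.Agent.SDiv.K476.HomSh6
import Groth.Agent.Grpsch.PicGrp
import Groth.Agent.Fga.TwistCoh
import Groth.Agent.MultCurve.K953.Basic

/-!
# Duality of dimensions on a proper scheme of dimension one with invertible dualizing module

Linear isomorphisms `Hom(F, w) = H^0(F^∨ ⊗ w)` and `Hom(F^∨ ⊗ w, w) = H^0(F^∨^∨)` for `w` invertible; combined with the
representing property of the dualizing module these give the equalities of dimensions for reflexive `F`.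
-/

set_option autoImplicit false

universe u

open CategoryTheory CategoryTheory.Limits AlgebraicGeometry

attribute [local instance] HasDerivedCategory.standard

namespace K953.DualDim

open Groth.Agent Groth.Agent.CurvesC Groth.Agent.CurvesC.RepX Groth.Agent.CurvesC.DualLin

variable (k : Type u) [Field k] {X : Scheme.{u}} [X.Over (Spec (CommRingCat.of k))]

attribute [local instance] LinMod.linearModules

/-- the bijection of an adjunction with linear right adjoint is linear -/
noncomputable def adjE {T R : X.Modules ⥤ X.Modules} (adj : T ⊣ R) [R.Additive] [R.Linear k] (M N : X.Modules) :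
    (T.obj M ⟶ N) ≃ₗ[k] (M ⟶ R.obj N) :=
  { adj.homEquiv M N with
    map_add' := fun f g => by
      change adj.homEquiv M N (f + g) = adj.homEquiv M N f + adj.homEquiv M N g
      rw [Adjunction.homEquiv_unit, Adjunction.homEquiv_unit, Adjunction.homEquiv_unit, Functor.map_add,
        Preadditive.comp_add]
    map_smul' := fun a f => by
      change adj.homEquiv M N (a • f) = a • adj.homEquiv M N f
      rw [Adjunction.homEquiv_unit, Adjunction.homEquiv_unit, Functor.map_smul, Linear.comp_smul] }

/-- a fully faithful linear functor is a linear bijection on morphisms -/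
noncomputable def eqE (T : X.Modules ⥤ X.Modules) [T.Additive] [T.Linear k] [T.Full] [T.Faithful] (M N : X.Modules) :
    (M ⟶ N) ≃ₗ[k] (T.obj M ⟶ T.obj N) :=
  LinearEquiv.ofBijective (T.mapLinearMap k) ⟨T.map_injective, T.map_surjective⟩

/-- `Hom(O, F) = H^0(X, F)` -/
noncomputable def homZero (F : X.Modules) : (Coh.structureModule X ⟶ F) ≃ₗ[k] HV X F 0 :=
  LinearEquiv.trans
    { toFun := fun f => (DerivedCategory.singleFunctor X.Modules 0).map f
      invFun := fun g => (DerivedCategory.singleFunctor X.Modules 0).preimage g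
      left_inv := fun f => by simp
      right_inv := fun g => by simp
      map_add' := fun f g => by rw [Functor.map_add]
      map_smul' := fun a f => by
        rw [LinMod.smul_def, Functor.map_comp, LinMod.singleFunctor_map_smulMod, Linear.comp_smul, Category.comp_id]
        rfl }
    (DualEuler.homHVₗ₀ k X F)

/-- `Hom(F, w) = H^0(X, F^∨ ⊗ w)` for `w` invertible -/
theorem nonempty_hom_equiv {w w' : X.Modules} (e : CohB1.tensorMod w w' ≅ Coh.structureModule X) (F : X.Modules) :
    Nonempty ((F ⟶ w) ≃ₗ[k] HV X (CohB1.tensorMod (RefHull.dual F) w) 0) := by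
  let T := DCoh.tensorRightMod w
  let T' := DCoh.tensorRightMod w'
  have hT : T.IsEquivalence := Sga2.LefPow644.isEquivalence_of_inv e
  have hT' : T'.IsEquivalence := Sga2.LefPow644.isEquivalence_of_inv (Ega2.Tens.swap w' w ≪≫ e)
  have hlin : T.Linear k := K461.DualInv.linear_tensorRightMod k X w
  have hlin' : T'.Linear k := K461.DualInv.linear_tensorRightMod k X w'
  have hR : (DCoh.sheafHom F).Linear k := K461.LFHom.linear_sheafHom k F
  -- `Hom(F, w) = Hom(F ⊗ w', O)`
  let E1 : (F ⟶ w) ≃ₗ[k] (CohB1.tensorMod F w' ⟶ Coh.structureModule X) :=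
    (eqE k T' F w).trans (Linear.homCongr k (Iso.refl _) e)
  let E2 : (CohB1.tensorMod F w' ⟶ Coh.structureModule X) ≃ₗ[k] (w' ⟶ RefHull.dual F) :=
    (adjE k (DCoh.sheafHomAdj F) w' (Coh.structureModule X)).trans
      (Linear.homCongr k (Iso.refl _) ((Sga2.PnHomAdj.sheafHomIso F).app _ ≪≫
        (K476.HomSh6.cmpIso F (Coh.structureModule X)).symm))
  let E3 : (w' ⟶ RefHull.dual F) ≃ₗ[k] (Coh.structureModule X ⟶ CohB1.tensorMod (RefHull.dual F) w) :=
    (eqE k T w' (RefHull.dual F)).trans
      (Linear.homCongr k (Ega2.Tens.swap w' w ≪≫ e) (Iso.refl _))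
  exact ⟨E1.trans (E2.trans (E3.trans (homZero k _)))⟩

/-- `Hom(F^∨ ⊗ w, w) = H^0(X, F^∨^∨)` for `w` invertible -/
theorem nonempty_hom_equiv' {w w' : X.Modules} (e : CohB1.tensorMod w w' ≅ Coh.structureModule X) (G : X.Modules) :
    Nonempty ((CohB1.tensorMod G w ⟶ w) ≃ₗ[k] HV X (RefHull.dual G) 0) := by
  let T := DCoh.tensorRightMod w
  have hT : T.IsEquivalence := Sga2.LefPow644.isEquivalence_of_inv e
  have hlin : T.Linear k := K461.DualInv.linear_tensorRightMod k X w
  have hR : (DCoh.sheafHom G).Linear k := K461.LFHom.linear_sheafHom k G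
  let E1 : (CohB1.tensorMod G w ⟶ w) ≃ₗ[k] (G ⟶ Coh.structureModule X) :=
    ((eqE k T G (Coh.structureModule X)).trans
      (Linear.homCongr k (Iso.refl _) (Ega2.Tens.swap (Coh.structureModule X) w ≪≫ Ega2.Tens.runit w))).symm
  let E2 : (G ⟶ Coh.structureModule X) ≃ₗ[k] (CohB1.tensorMod G (Coh.structureModule X) ⟶ Coh.structureModule X) :=
    Linear.homCongr k (Ega2.Tens.runit G).symm (Iso.refl _)
  let E3 : (CohB1.tensorMod G (Coh.structureModule X) ⟶ Coh.structureModule X) ≃ₗ[k]
      (Coh.structureModule X ⟶ RefHull.dual G) :=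
    (adjE k (DCoh.sheafHomAdj G) (Coh.structureModule X) (Coh.structureModule X)).trans
      (Linear.homCongr k (Iso.refl _) ((Sga2.PnHomAdj.sheafHomIso G).app _ ≪≫
        (K476.HomSh6.cmpIso G (Coh.structureModule X)).symm))
  exact ⟨E1.trans (E2.trans (E3.trans (homZero k _)))⟩

/-- a dual pair is a linear isomorphism `Hom(F, w) = H^1(X, F)^*` -/
theorem nonempty_dual {w : X.Modules} {t : HV X w 1 →ₗ[k] k} (h : IsDual w t) {F : X.Modules} (hF : Coh.IsQCoh F) :
    Nonempty ((F ⟶ w) ≃ₗ[k] Module.Dual k (HV X F 1)) :=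
  ⟨{ h.homEquiv hF with
    map_smul' := fun a φ => by
      change h.homEquiv hF (a • φ) = a • h.homEquiv hF φ
      rw [← h.homEquiv_smul hF a φ, ← LinMod.smul_id, Linear.smul_comp, Category.id_comp] }⟩

variable (X) in
/-- The equalities of dimensions. -/
theorem finrank_eq [IsProper (X ↘ (Spec (CommRingCat.of k)))]
    {w : X.Modules} {t : HV X w 1 →ₗ[k] k} (h : IsDual w t) (hw : PicF.IsInvertible w)
    {F : X.Modules} (hF : Coh.IsCoh F) (hFr : RefHull.IsReflexive F) :
    Module.finrank k (Coh.HH X F 0) = Module.finrank k (Coh.HH X (CohB1.tensorMod (RefHull.dual F) w) 1) ∧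
      Module.finrank k (Coh.HH X F 1) = Module.finrank k (Coh.HH X (CohB1.tensorMod (RefHull.dual F) w) 0) := by
  have hN : IsLocallyNoetherian X := LocallyOfFiniteType.isLocallyNoetherian (X ↘ (Spec (CommRingCat.of k)))
  obtain ⟨w', -, ⟨e⟩⟩ := Grpsch.PicGrp.exists_inverse hw
  have hG : Coh.IsCoh (CohB1.tensorMod (RefHull.dual F) w) :=
    Fga.TwistCoh.isCoh_tensor (K476.HomSh4.isCoh_dual hF) hw
  obtain ⟨E1⟩ := nonempty_hom_equiv k e F
  obtain ⟨E2⟩ := nonempty_hom_equiv' k e (RefHull.dual F)
  obtain ⟨E3⟩ := nonempty_dual k h hF.1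
  obtain ⟨E4⟩ := nonempty_dual k h hG.1
  have hi : IsIso (RefHull.bidualMap F) := hFr
  have h0 : Module.finrank k (HV X F 0) = Module.finrank k (HV X (RefHull.ddual F) 0) := by
    have e5 : F ≅ RefHull.ddual F := @asIso _ _ _ _ (RefHull.bidualMap F) hi
    exact ((homZero k F).symm.trans ((Linear.homCongr k (Iso.refl _) e5).trans (homZero k _))).finrank_eq
  constructor
  · have h1 : Module.finrank k (HV X (CohB1.tensorMod (RefHull.dual F) w) 1) =
        Module.finrank k (HV X (RefHull.ddual F) 0) := by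
      rw [← Subspace.dual_finrank_eq, ← E4.finrank_eq, E2.finrank_eq]
    exact h0.trans h1.symm
  · have h1 : Module.finrank k (HV X F 1) =
        Module.finrank k (HV X (CohB1.tensorMod (RefHull.dual F) w) 0) := by
      rw [← Subspace.dual_finrank_eq, ← E3.finrank_eq, E1.finrank_eq]
    exact h1

/-- a closed immersion with nilpotent ideal is a homeomorphism -/
theorem isHomeomorph_of_pow {C X : Scheme.{u}} (i : C ⟶ X) [IsClosedImmersion i] (n : ℕ) (h : i.ker ^ n = ⊥) :
    IsHomeomorph i := by
  have hs := K953.MultBasic.surjective_of_ker_pow i n h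
  exact isHomeomorph_iff_isEmbedding_surjective.2 ⟨i.isClosedEmbedding.isEmbedding, hs.surj⟩

end K953.DualDim
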