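import Groth.Agent.MultCurve.K953.AlgSec

/-!
# The glued thickening over a field
-/

set_option autoImplicit false

open AlgebraicGeometry CategoryTheory Limits TopologicalSpace Opposite

universe u

noncomputable section

namespace K953.AlgBase

open OmegaSh K953.AlgGlue K953.AlgSec K583.DerAffine Groth.Agent.Fdesc.LocGen

variable {k : Type u} [Field k] {D : Scheme.{u}} {pD : D ⟶ Spec (CommRingCat.of k)}

/-- constants -/
def sk₀ (pD : D ⟶ Spec (CommRingCat.of k)) (V : D.Opens) : CommRingCat.of k ⟶ Γ(D, V) :=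
  (Scheme.ΓSpecIso (CommRingCat.of k)).inv ≫ pD.appLE ⊤ V le_top

theorem map_sk₀ {V : D.Opens} (hV : IsAffineOpen V) :
    Spec.map (sk₀ pD V) = hV.fromSpec ≫ pD := by
  apply ext_of_isAffine
  have e0 : ⊤ ≤ hV.fromSpec ⁻¹ᵁ V := hV.fromSpec_preimage_self.ge
  have h1 : (hV.fromSpec ≫ pD).appTop = pD.appLE ⊤ V le_top ≫ hV.fromSpec.appLE V ⊤ e0 := by
    rw [Scheme.Hom.appLE_comp_appLE]
    exact Scheme.Hom.app_eq_appLE _
  have h2 := appLE_fromSpec_self hV e0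
  have h3 : hV.fromSpec.appLE V ⊤ e0 = (Scheme.ΓSpecIso Γ(D, V)).inv := by
    rw [← cancel_mono (Scheme.ΓSpecIso Γ(D, V)).hom, h2, Iso.inv_hom_id]
  rw [h1, h3, ← cancel_mono (Scheme.ΓSpecIso Γ(D, V)).hom]
  refine (Scheme.ΓSpecIso_naturality (sk₀ pD V)).trans ?_
  rw [sk₀, Iso.hom_inv_id_assoc, Category.assoc, Iso.inv_hom_id, Category.comp_id]

variable (A : AlgDat D) (s : ∀ V, k →+* A.R V)
  (hs : ∀ {V W : D.affineOpens} (h : V ≤ W) (c : k), A.r h (s W c) = s V c)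

include hs in
theorem exists_pc : ∃ p : Gl A ⟶ Spec (CommRingCat.of k), ∀ V : D.affineOpens,
    ι A V ≫ p = Spec.map (CommRingCat.ofHom (s V)) := by
  apply exists_desc
  intro V W h
  rw [smap, ← Spec.map_comp]
  congr 1
  ext c
  exact hs h c

variable {A s}

theorem incl_comp {p : Gl A ⟶ Spec (CommRingCat.of k)}
    (hp : ∀ V : D.affineOpens, ι A V ≫ p = Spec.map (CommRingCat.ofHom (s V)))
    (hps : ∀ (V : D.affineOpens) (c : k), A.p V (s V c) = sk₀ pD V c) : incl A ≫ p = pD := by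
  apply Groth.Agent.FlatB.PushGlue.hom_ext_imm
  intro x
  obtain ⟨V, hV⟩ := exists_mem x
  refine ⟨_, V.2.fromSpec, inferInstance, by rw [V.2.range_fromSpec]; exact hV, ?_⟩
  rw [← Category.assoc, fromSpec_incl, Category.assoc, hp, pS, ← map_sk₀, ← Spec.map_comp]
  congr 1
  ext c
  exact hps V c

theorem ev_appLE {p : Gl A ⟶ Spec (CommRingCat.of k)}
    (hp : ∀ V : D.affineOpens, ι A V ≫ p = Spec.map (CommRingCat.ofHom (s V)))
    (V : D.affineOpens) (e : AlgGlue.O A V ≤ p ⁻¹ᵁ ⊤) (c : Γ(Spec (CommRingCat.of k), ⊤)) :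
    ev A V (p.appLE ⊤ (AlgGlue.O A V) e c) =
      s V ((Scheme.ΓSpecIso (CommRingCat.of k)).hom c) := by
  have h1 : p.appLE ⊤ (AlgGlue.O A V) e ≫ (ι A V).appLE (AlgGlue.O A V) ⊤ (le_pre _ V) =
      (Spec.map (CommRingCat.ofHom (s V))).appLE ⊤ ⊤ le_rfl := by
    rw [Scheme.Hom.appLE_comp_appLE]
    simp only [hp]
  have h2 : (Spec.map (CommRingCat.ofHom (s V))).appLE ⊤ ⊤ le_rfl ≫
      (Scheme.ΓSpecIso _).hom = (Scheme.ΓSpecIso _).hom ≫ CommRingCat.ofHom (s V) := by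
    have e : (Spec.map (CommRingCat.ofHom (s V))).appLE ⊤ ⊤ le_rfl =
      (Spec.map (CommRingCat.ofHom (s V))).appTop := (Scheme.Hom.app_eq_appLE _).symm
    rw [e]
    exact Scheme.ΓSpecIso_naturality _
  have h4 : p.appLE ⊤ (AlgGlue.O A V) e ≫
      ((ι A V).appLE (AlgGlue.O A V) ⊤ (le_pre _ V) ≫
        (Scheme.ΓSpecIso (CommRingCat.of (A.R V))).hom) = (Scheme.ΓSpecIso _).hom ≫
          CommRingCat.ofHom (s V) := by
    rw [← Category.assoc, h1]
    exact h2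
  exact congr($h4 c)

theorem exists_delta {p : Gl A ⟶ Spec (CommRingCat.of k)}
    (hp : ∀ V : D.affineOpens, ι A V ≫ p = Spec.map (CommRingCat.ofHom (s V)))
    (E : D.Modules) (δ : ∀ V : D.affineOpens, A.R V →+ Γ(E, V.1))
    (hr : ∀ {V W : D.affineOpens} (h : V ≤ W) (x : A.R W),
      δ V (A.r h x) = res E (show V.1 ≤ W.1 from h) (δ W x))
    (hmul : ∀ (V : D.affineOpens) (x y : A.R V), δ V (x * y) = A.p V x • δ V y + A.p V y • δ V x)
    (h0 : ∀ (V : D.affineOpens) (c : k), δ V (s V c) = 0) :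
    ∃ d : Der p ((Scheme.Modules.pushforward (incl A)).obj E), ∀ (V : D.affineOpens)
      (a : Γ(Gl A, AlgGlue.O A V)), res E (le_incl A V)
        (show Γ(E, incl A ⁻¹ᵁ AlgGlue.O A V) from d.app (AlgGlue.O A V) a) =
        δ V (ev A V a) := by
  refine exists_der A p E δ hr hmul ?_
  intro x U hx
  have hU : U = ⊤ := by
    ext y
    have : y = x := Subsingleton.elim (α := PrimeSpectrum k) _ _
    rw [this]
    exact ⟨fun _ => trivial, fun _ => hx⟩
  subst hU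
  refine ⟨⊤, le_rfl, hx, ?_⟩
  intro V e c
  rw [ev_appLE hp]
  exact h0 V _

/-- The structure morphism is of finite type if the charts are. -/
theorem locallyOfFiniteType {p : Gl A ⟶ Spec (CommRingCat.of k)}
    (hp : ∀ V : D.affineOpens, ι A V ≫ p = Spec.map (CommRingCat.ofHom (s V)))
    (h : ∀ V, (s V).FiniteType) : LocallyOfFiniteType p := by
  refine (IsZariskiLocalAtSource.iff_of_openCover (P := @LocallyOfFiniteType) (cov A)).mpr fun V => ?_
  change LocallyOfFiniteType (ι A V ≫ p)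
  rw [hp]
  exact (HasRingHomProperty.Spec_iff (P := @LocallyOfFiniteType)).mpr (h V)

section Pairs

variable {p : Gl A ⟶ Spec (CommRingCat.of k)} {E Ω₂ : D.Modules} {v : E ⟶ Ω₂} {d₂ : Der pD Ω₂}
  {δ : ∀ V : D.affineOpens, A.R V →+ Γ(E, V.1)}
  {d : Der p ((Scheme.Modules.pushforward (incl A)).obj E)}
  (hd : ∀ (V : D.affineOpens) (a : Γ(Gl A, AlgGlue.O A V)), res E (le_incl A V)
        (show Γ(E, incl A ⁻¹ᵁ AlgGlue.O A V) from d.app (AlgGlue.O A V) a) =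
        δ V (ev A V a))

include hd in
theorem res_der {U : (Gl A).Opens} {V : D.affineOpens} (h : V.1 ≤ incl A ⁻¹ᵁ U)
    (h' : AlgGlue.O A V ≤ U) (a : Γ(Gl A, U)) :
    res E h (show Γ(E, incl A ⁻¹ᵁ U) from d.app U a) =
      δ V (ev A V ((Gl A).presheaf.map (homOfLE h').op a)) := by
  rw [← hd, app_map]
  exact (res_res E ((incl A).preimage_mono h') (le_incl A V) _).symm

theorem O_le {U : (Gl A).Opens} {V : D.affineOpens} (h : V.1 ≤ incl A ⁻¹ᵁ U) :
    AlgGlue.O A V ≤ U := by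
  apply le_of_preimage_le
  rw [preimage_O]
  exact h

include hd in
theorem v_der (h1 : ∀ (V : D.affineOpens) (x : A.R V), v.app V.1 (δ V x) = d₂.app V.1 (A.p V x))
    (U : (Gl A).Opens) (a : Γ(Gl A, U)) :
    v.app (incl A ⁻¹ᵁ U) (show Γ(E, incl A ⁻¹ᵁ U) from d.app U a) =
      d₂.app (incl A ⁻¹ᵁ U) ((incl A).app U a) := by
  apply eq_of_locally
  intro x hx
  obtain ⟨V, hV, hxV, hVU⟩ := exists_isAffineOpen_mem_and_subset (U := incl A ⁻¹ᵁ U) (x := x) hx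
  have hVU : V ≤ incl A ⁻¹ᵁ U := hVU
  refine ⟨V, hVU, hxV, ?_⟩
  have hO : AlgGlue.O A ⟨V, hV⟩ ≤ U := O_le (V := ⟨V, hV⟩) hVU
  have e1 := app_res v hVU (show Γ(E, incl A ⁻¹ᵁ U) from d.app U a)
  have e2 := res_der hd (V := ⟨V, hV⟩) hVU hO a
  have e3 := h1 ⟨V, hV⟩ (ev A ⟨V, hV⟩ ((Gl A).presheaf.map (homOfLE hO).op a))
  rw [← e2, ← incl_appLE] at e3
  refine e1.symm.trans (e3.trans ?_)
  rw [← app_map]
  congr 1
  rw [← ConcreteCategory.comp_apply, Scheme.Hom.map_appLE]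
  rfl

include hd in
theorem eq_zero (h2 : ∀ (V : D.affineOpens) (x : A.R V), A.p V x = 0 → δ V x = 0 → x = 0)
    {U : (Gl A).Opens} (hU : IsAffineOpen (incl A ⁻¹ᵁ U)) {a : Γ(Gl A, U)}
    (ha : (incl A).app U a = 0) (hda : d.app U a = 0) : a = 0 := by
  obtain ⟨V, rfl⟩ : ∃ V : D.affineOpens, AlgGlue.O A V = U := ⟨⟨_, hU⟩, O_eq A rfl⟩
  apply (ev_bijective A V).1
  rw [map_zero]
  apply h2
  · rw [← incl_appLE]
    have e : (incl A).appLE (AlgGlue.O A V) V.1 (le_incl A V) a =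
      D.presheaf.map (homOfLE (le_incl A V)).op ((incl A).app (AlgGlue.O A V) a) := rfl
    rw [e, ha, map_zero]
  · rw [← hd, hda]
    exact map_zero _

include hd in
theorem exists_eq (h3 : ∀ (V : D.affineOpens) (a : Γ(D, V.1)) (ω : Γ(E, V.1)),
      v.app V.1 ω = d₂.app V.1 a → ∃ x : A.R V, A.p V x = a ∧ δ V x = ω)
    {U : (Gl A).Opens} (hU : IsAffineOpen (incl A ⁻¹ᵁ U)) (a : Γ(D, incl A ⁻¹ᵁ U))
    (ω : Γ(E, incl A ⁻¹ᵁ U)) (h : v.app (incl A ⁻¹ᵁ U) ω = d₂.app (incl A ⁻¹ᵁ U) a) :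
    ∃ b : Γ(Gl A, U), (incl A).app U b = a ∧ (show Γ(E, incl A ⁻¹ᵁ U) from d.app U b) = ω := by
  obtain ⟨V, rfl⟩ : ∃ V : D.affineOpens, AlgGlue.O A V = U := ⟨⟨_, hU⟩, O_eq A rfl⟩
  obtain ⟨x, hx1, hx2⟩ := h3 V (ores (le_incl A V) a) (res E (le_incl A V) ω) (by
    rw [app_res, h]
    exact (app_map d₂ (le_incl A V) a).symm)
  obtain ⟨b, rfl⟩ := (ev_bijective A V).2 x
  have hj : ∀ {F : D.Modules} {s t : Γ(F, incl A ⁻¹ᵁ AlgGlue.O A V)},
      res F (le_incl A V) s = res F (le_incl A V) t → s = t := by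
    intro F s t hst
    have := congrArg (res F (preimage_O A V).le) hst
    rw [res_res, res_res, res_refl, res_refl] at this
    exact this
  refine ⟨b, ?_, ?_⟩
  · have e1 : ores (le_incl A V) ((incl A).app (AlgGlue.O A V) b) = ores (le_incl A V) a := by
      rw [← hx1, ← incl_appLE]
      rfl
    have := congrArg (ores (preimage_O A V).le) e1
    rw [ores_ores, ores_ores, ores_refl, ores_refl] at this
    exact this
  · apply hj
    rw [← hx2, ← hd]

end Pairs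

end K953.AlgBase

end
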