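import Mathlib.RingTheory.Flat.TorsionFree
import Mathlib.RingTheory.Flat.EquationalCriterion
import Mathlib.RingTheory.Ideal.Quotient.Noetherian
import Mathlib.LinearAlgebra.Dual.Lemmas

/-!
# Multiplication by an element killed by the ideal factors through a free module

`A` Noetherian, `I` an ideal with `A/I` a Dedekind domain, `s` an element with `s I = 0`, `K` a finite module on which all
elements outside `I` are nonzerodivisors: then multiplication by `s` on `K` factors through a finite free module.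
-/

set_option autoImplicit false

universe u v

namespace K953.AlgFactor

variable {A : Type u} [CommRing A] (I : Ideal A) {K : Type v} [AddCommGroup K] [Module A K]

/-- the elements which are torsion modulo `I K` -/
def tors [I.IsPrime] (K : Type v) [AddCommGroup K] [Module A K] : Submodule A K where
  carrier := {m | ∃ x, x ∉ I ∧ x • m ∈ I • (⊤ : Submodule A K)}
  zero_mem' := ⟨1, fun h => Ideal.IsPrime.ne_top ‹_› ((Ideal.eq_top_iff_one I).2 h), by simp⟩
  add_mem' := by
    rintro m m' ⟨x, hx, h⟩ ⟨x', hx', h'⟩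
    refine ⟨x * x', fun h0 => ?_, ?_⟩
    · rcases Ideal.IsPrime.mem_or_mem ‹_› h0 with h1 | h1
      exacts [hx h1, hx' h1]
    · rw [smul_add]
      refine Submodule.add_mem _ ?_ ?_
      · rw [mul_comm, mul_smul]
        exact Submodule.smul_mem _ _ h
      · rw [mul_smul]
        exact Submodule.smul_mem _ _ h'
  smul_mem' := by
    rintro c m ⟨x, hx, h⟩
    refine ⟨x, hx, ?_⟩
    rw [smul_comm]
    exact Submodule.smul_mem _ _ h

theorem mem_tors [I.IsPrime] (m : K) : m ∈ tors I K ↔ ∃ x, x ∉ I ∧ x • m ∈ I • (⊤ : Submodule A K) := Iff.rfl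

theorem le_tors [I.IsPrime] : I • (⊤ : Submodule A K) ≤ tors I K := fun m hm =>
  ⟨1, fun h => Ideal.IsPrime.ne_top ‹_› ((Ideal.eq_top_iff_one I).2 h), by rwa [one_smul]⟩

theorem smul_tors [I.IsPrime] (s : A) (hs : ∀ a ∈ I, s * a = 0)
    (hK : ∀ x : A, x ∉ I → ∀ m : K, x • m = 0 → m = 0) (m : K) (hm : m ∈ tors I K) : s • m = 0 := by
  obtain ⟨x, hx, h⟩ := hm
  apply hK x hx
  rw [smul_comm]
  refine Submodule.smul_induction_on (p := fun y => s • y = 0) h ?_ ?_
  · intro r hr n _
    rw [← mul_smul, hs r hr, zero_smul]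
  · intro y z hy hz
    rw [smul_add, hy, hz, add_zero]

theorem exists_factor [IsNoetherianRing A] [I.IsPrime] [IsDedekindDomain (A ⧸ I)] (s : A) (hs : ∀ a ∈ I, s * a = 0)
    [Module.Finite A K] (hK : ∀ x : A, x ∉ I → ∀ m : K, x • m = 0 → m = 0) :
    ∃ (r : ℕ) (α : K →ₗ[A] (Fin r → A)) (β : (Fin r → A) →ₗ[A] K), ∀ m, β (α m) = s • m := by
  let Q := K ⧸ tors I K
  have hI : ∀ a ∈ I, ∀ q : Q, a • q = 0 := by
    intro a ha q
    obtain ⟨m, rfl⟩ := Submodule.mkQ_surjective _ q
    rw [← map_smul]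
    exact (Submodule.Quotient.mk_eq_zero _).2 (le_tors I (Submodule.smul_mem_smul ha trivial))
  let : Module (A ⧸ I) Q := Module.IsTorsionBySet.module (I := I) (fun q a => hI a.1 a.2 q)
  have : IsScalarTower A (A ⧸ I) Q := Module.IsTorsionBySet.isScalarTower _
  have hmk : ∀ (a : A) (q : Q), (Ideal.Quotient.mk I a) • q = a • q := fun a q => by
    rw [← Ideal.Quotient.algebraMap_eq, algebraMap_smul]
  have : Module.Finite (A ⧸ I) Q := Module.Finite.of_restrictScalars_finite A (A ⧸ I) Q
  have : Module.IsTorsionFree (A ⧸ I) Q := by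
    rw [Module.isTorsionFree_iff_smul_eq_zero]
    intro b q hbq
    obtain ⟨x, rfl⟩ := Ideal.Quotient.mk_surjective b
    obtain ⟨m, rfl⟩ := Submodule.mkQ_surjective _ q
    rw [hmk, ← map_smul] at hbq
    by_cases hx : x ∈ I
    · exact Or.inl (Ideal.Quotient.eq_zero_iff_mem.2 hx)
    · right
      have h1 : x • m ∈ tors I K := (Submodule.Quotient.mk_eq_zero _).1 hbq
      obtain ⟨y, hy, h⟩ := h1
      refine (Submodule.Quotient.mk_eq_zero _).2 ⟨y * x, fun h0 => ?_, by rwa [mul_smul]⟩
      rcases Ideal.IsPrime.mem_or_mem ‹_› h0 with h1 | h1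
      exacts [hy h1, hx h1]
  have : Module.FinitePresentation (A ⧸ I) Q := Module.finitePresentation_of_finite _ _
  have : Module.Projective (A ⧸ I) Q := Module.Flat.projective_of_finitePresentation
  obtain ⟨r, π, hπ⟩ := Module.Finite.exists_fin' (A ⧸ I) Q
  obtain ⟨σ, hσ⟩ := Module.projective_lifting_property π LinearMap.id hπ
  choose e he using fun i : Fin r => Submodule.mkQ_surjective (tors I K) (π (Pi.single i 1))
  -- multiplication by `s` as a map `A/I → A`
  let μ : (A ⧸ I) →ₗ[A] A := Submodule.liftQ I (LinearMap.toSpanSingleton A A s) (fun a ha => by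
    change a • s = 0
    rw [smul_eq_mul, mul_comm]
    exact hs a ha)
  have hμ : ∀ a : A, μ (Ideal.Quotient.mk I a) = a * s := fun a => rfl
  let α : K →ₗ[A] (Fin r → A) := LinearMap.pi fun i =>
    μ ∘ₗ ((LinearMap.proj i : (Fin r → A ⧸ I) →ₗ[A ⧸ I] A ⧸ I) ∘ₗ σ).restrictScalars A ∘ₗ (tors I K).mkQ
  let β : (Fin r → A) →ₗ[A] K := Fintype.linearCombination A e
  refine ⟨r, α, β, fun m => ?_⟩
  choose c hc using fun i : Fin r => Ideal.Quotient.mk_surjective (σ ((tors I K).mkQ m) i)
  have h1 : ∀ i, α m i = c i * s := fun i => by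
    change μ (σ ((tors I K).mkQ m) i) = _
    rw [← hc, hμ]
  have h2 : β (α m) = s • ∑ i, c i • e i := by
    rw [Fintype.linearCombination_apply, Finset.smul_sum]
    refine Finset.sum_congr rfl fun i _ => ?_
    rw [h1, mul_comm, mul_smul]
  rw [h2, ← sub_eq_zero, ← smul_sub]
  apply smul_tors I s hs hK
  rw [← Submodule.Quotient.mk_eq_zero]
  change (tors I K).mkQ _ = 0
  rw [map_sub, map_sum, sub_eq_zero]
  have h3 : (tors I K).mkQ m = π (σ ((tors I K).mkQ m)) := (LinearMap.congr_fun hσ _).symm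
  rw [h3]
  have h4 : σ ((tors I K).mkQ m) = ∑ i, (σ ((tors I K).mkQ m) i) • (Pi.single i 1 : Fin r → A ⧸ I) := by
    ext j
    simp [Finset.sum_apply, Pi.single_apply]
  rw [h4, map_sum]
  refine Finset.sum_congr rfl fun i _ => ?_
  rw [map_smul, map_smul, he, ← hc, hmk]

end K953.AlgFactor
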