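import Groth.Agent.FlatB.PushGlue

/-!
# Gluing a thickening from rings on the affine opens

`AlgDat D`: a surjection of rings `p_V : R V → Γ(D, V)` with nil kernel for every affine open `V`, with restriction maps
which are localizations. The glued scheme `Gl A` with its charts and the closed immersion `D ⟶ Gl A`.
-/

set_option autoImplicit false

open AlgebraicGeometry CategoryTheory Limits TopologicalSpace Opposite
open Groth.Agent.FlatB.PushRing Groth.Agent.FlatB.PushPair Groth.Agent.FlatB.PushGlue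

universe u

namespace K953.AlgGlue

/-- Rings over the affine opens of `D`. -/
structure AlgDat (D : Scheme.{u}) where
  /-- the rings -/
  R : D.affineOpens → Type u
  /-- the ring structures -/
  ring : ∀ V, CommRing (R V)
  /-- restriction -/
  r : ∀ {V W : D.affineOpens}, V ≤ W → (R W →+* R V)
  r_self : ∀ (V : D.affineOpens) (x : R V), r (le_refl V) x = x
  r_r : ∀ {U V W : D.affineOpens} (h : U ≤ V) (h' : V ≤ W) (x : R W), r h (r h' x) = r (h.trans h') x
  /-- the projections -/
  p : ∀ V : D.affineOpens, R V →+* Γ(D, V.1)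
  p_r : ∀ {V W : D.affineOpens} (h : V ≤ W) (x : R W), p V (r h x) = res D h (p W x)
  surj : ∀ V, Function.Surjective (p V)
  nil : ∀ (V : D.affineOpens) (x : R V), p V x = 0 → IsNilpotent x
  loc : ∀ {V W : D.affineOpens} (h : V ≤ W) (c : R W), V.1 = D.basicOpen (p W c) → IsLocAway (r h) c

attribute [instance] AlgDat.ring

variable {D : Scheme.{u}} (A : AlgDat D)

/-- The affine schemes -/
noncomputable def sp (V : D.affineOpens) : Scheme.{u} := Spec (CommRingCat.of (A.R V))

/-- The restriction maps on spectra. -/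
noncomputable def smap {V W : D.affineOpens} (h : V ≤ W) : Spec (CommRingCat.of (A.R V)) ⟶
    Spec (CommRingCat.of (A.R W)) :=
  Spec.map (CommRingCat.ofHom (A.r h))

theorem smap_rfl (V : D.affineOpens) : smap A (le_refl V) = 𝟙 _ := by
  have : A.r (le_refl V) = RingHom.id _ := RingHom.ext (A.r_self V)
  rw [smap, this]; exact Spec.map_id _

theorem smap_comp {U V W : D.affineOpens} (h : U ≤ V) (h' : V ≤ W) :
    smap A h ≫ smap A h' = smap A (h.trans h') := by
  have : (A.r h).comp (A.r h') = A.r (h.trans h') := RingHom.ext (A.r_r h h')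
  rw [smap, smap, smap, ← Spec.map_comp, ← CommRingCat.ofHom_comp, this]

/-- The embedding of the affine open in the chart -/
noncomputable def pS (V : D.affineOpens) : Spec Γ(D, V.1) ⟶ Spec (CommRingCat.of (A.R V)) :=
  Spec.map (CommRingCat.ofHom (A.p V))

theorem pS_smap {V W : D.affineOpens} (h : V ≤ W) :
    pS A V ≫ smap A h = Spec.map (D.presheaf.map (homOfLE (show V.1 ≤ W.1 from h)).op) ≫ pS A W := by
  rw [pS, pS, smap, ← Spec.map_comp, ← Spec.map_comp]
  congr 1
  ext x
  exact A.p_r h x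

theorem pS_surj {V : D.affineOpens} (y : Spec (CommRingCat.of (A.R V))) : ∃ x, pS A V x = y := by
  have hk : RingHom.ker (A.p V) ≤ y.asIdeal := by
    intro x hx
    obtain ⟨n, hn⟩ := A.nil V x hx
    exact y.2.mem_of_pow_mem n (by rw [hn]; exact y.asIdeal.zero_mem)
  have h2 : y ∈ Set.range (PrimeSpectrum.comap (A.p V)) := by
    rw [_root_.range_comap_of_surjective _ (A.p V) (A.surj V)]
    exact hk
  exact h2

/-- membership in basic opens -/
theorem pS_mem {V : D.affineOpens} (x : Spec Γ(D, V.1)) (c : A.R V) :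
    V.2.fromSpec x ∈ D.basicOpen (A.p V c) ↔ c ∉ (pS A V x).asIdeal := by
  have h1 := V.2.fromSpec_preimage_basicOpen (f := A.p V c)
  have h2 : x ∈ V.2.fromSpec ⁻¹ᵁ D.basicOpen (A.p V c) ↔
      x ∈ (PrimeSpectrum.basicOpen (A.p V c) : Opens (PrimeSpectrum Γ(D, V.1))) := by rw [h1]; rfl
  exact h2

/-- the basic open of a section -/
def basic (W : D.affineOpens) (c : A.R W) : D.affineOpens := ⟨D.basicOpen (A.p W c), W.2.basicOpen _⟩

theorem basic_le (W : D.affineOpens) (c : A.R W) : basic A W c ≤ W := D.basicOpen_le _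

theorem fromSpec_mem {V : D.Opens} (hV : IsAffineOpen V) (x : Spec Γ(D, V)) : hV.fromSpec x ∈ V := by
  rw [← SetLike.mem_coe, ← hV.range_fromSpec]; exact ⟨_, rfl⟩

theorem exists_basic (W : D.affineOpens) (U : D.Opens) (x : D) (hx : x ∈ U) (hxW : x ∈ W.1) :
    ∃ c : A.R W, x ∈ (basic A W c).1 ∧ (basic A W c).1 ≤ U := by
  obtain ⟨g, hg, hxg⟩ := W.2.exists_basicOpen_le ⟨x, hx⟩ hxW
  obtain ⟨c, rfl⟩ := A.surj W g
  exact ⟨c, hxg, hg⟩

theorem exists_basic_prime {V W : D.affineOpens} (h : V ≤ W) (y : Spec (CommRingCat.of (A.R V))) :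
    ∃ c : A.R W, A.r h c ∉ y.asIdeal ∧ basic A W c ≤ V := by
  obtain ⟨z, rfl⟩ := pS_surj A y
  obtain ⟨c, hc1, hc2⟩ := exists_basic A W V.1 (V.2.fromSpec z) (fromSpec_mem _ z) (h (fromSpec_mem _ z))
  refine ⟨c, ?_, hc2⟩
  rw [← pS_mem, A.p_r, basicOpen_res']
  exact ⟨fromSpec_mem _ z, hc1⟩

theorem basic_r {V W : D.affineOpens} (h : V ≤ W) (c : A.R W) (hc : basic A W c ≤ V) :
    basic A V (A.r h c) = basic A W c := by
  apply Subtype.ext
  change D.basicOpen (A.p V (A.r h c)) = D.basicOpen (A.p W c)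
  rw [A.p_r, basicOpen_res', inf_eq_right]
  exact hc

instance isOpenImmersion_smap {V W : D.affineOpens} (h : V ≤ W) : IsOpenImmersion (smap A h) := by
  apply isOpenImmersion_of_forall
  intro y
  obtain ⟨c, hc1, hc2⟩ := exists_basic_prime A h y
  have hloc : IsLocAway (A.r (basic_le A V (A.r h c))) (A.r h c) := A.loc _ _ rfl
  have hloc2 : IsLocAway (A.r ((basic_le A V (A.r h c)).trans h)) c :=
    A.loc _ _ (congrArg Subtype.val (basic_r A h c hc2))
  refine ⟨_, smap A (basic_le A V (A.r h c)), isOpenImmersion_of_isLocAway hloc,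
    PrimeSpectrum.basicOpen c, hc1, ?_, ?_⟩
  · have := opensRange_of_isLocAway hloc
    refine Eq.trans ?_ this.symm
    rfl
  · rw [smap_comp]
    exact isOpenImmersion_of_isLocAway hloc2

theorem opensRange_smap_basic (W : D.affineOpens) (c : A.R W) :
    (smap A (basic_le A W c)).opensRange = PrimeSpectrum.basicOpen c :=
  opensRange_of_isLocAway (A.loc (basic_le A W c) c rfl)

/-- The diagram of affine schemes -/
noncomputable def F : D.affineOpens ⥤ Scheme.{u} where
  obj V := Spec (CommRingCat.of (A.R V))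
  map f := smap A (leOfHom f)
  map_id V := smap_rfl A V
  map_comp f g := (smap_comp A (leOfHom f) (leOfHom g)).symm

instance {V W : D.affineOpens} (f : V ⟶ W) : IsOpenImmersion ((F A).map f) :=
  isOpenImmersion_smap A (leOfHom f)

theorem exists_le_le {V V' W : D.affineOpens} (h : V ≤ W) (h' : V' ≤ W)
    (y : Spec (CommRingCat.of (A.R V))) (y' : Spec (CommRingCat.of (A.R V')))
    (hy : smap A h y = smap A h' y') :
    ∃ (S : D.affineOpens) (hS : S ≤ V) (hS' : S ≤ V') (z : Spec (CommRingCat.of (A.R S))),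
      smap A hS z = y ∧ smap A hS' z = y' := by
  obtain ⟨c, hc1, hc2⟩ := exists_basic_prime A h y
  obtain ⟨c', hc1', hc2'⟩ := exists_basic_prime A h' y'
  have e1 : (basic A W (c * c')).1 = (basic A W c).1 ⊓ (basic A W c').1 := by
    change D.basicOpen (A.p W (c * c')) = _
    rw [map_mul, D.basicOpen_mul]
    rfl
  have hS : basic A W (c * c') ≤ V := by
    change (basic A W (c * c')).1 ≤ V.1
    rw [e1]; exact inf_le_left.trans hc2
  have hS' : basic A W (c * c') ≤ V' := by
    change (basic A W (c * c')).1 ≤ V'.1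
    rw [e1]; exact inf_le_right.trans hc2'
  have hmem : smap A h y ∈ PrimeSpectrum.basicOpen (c * c') := by
    rw [PrimeSpectrum.basicOpen_mul]
    refine ⟨hc1, ?_⟩
    rw [hy]
    exact hc1'
  rw [← opensRange_smap_basic] at hmem
  obtain ⟨z, hz⟩ := hmem
  refine ⟨basic A W (c * c'), hS, hS', z, ?_, ?_⟩
  · apply (smap A h).isOpenEmbedding.injective
    rw [← Scheme.Hom.comp_apply, smap_comp]
    exact hz
  · apply (smap A h').isOpenEmbedding.injective
    rw [← Scheme.Hom.comp_apply, smap_comp, ← hy]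
    exact hz

instance : (F A ⋙ Scheme.forget).IsLocallyDirected where
  cond {V V' W} f f' y y' hy := by
    obtain ⟨S, hS, hS', z, hz, hz'⟩ := exists_le_le A (leOfHom f) (leOfHom f') y y' hy
    exact ⟨S, homOfLE hS, homOfLE hS', z, hz, hz'⟩

/-- The glued scheme. -/
noncomputable def Gl : Scheme.{u} := colimit (F A)

/-- The charts of the glued scheme. -/
noncomputable def ι (V : D.affineOpens) : Spec (CommRingCat.of (A.R V)) ⟶ Gl A := colimit.ι (F A) V

instance (V : D.affineOpens) : IsOpenImmersion (ι A V) :=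
  inferInstanceAs (IsOpenImmersion (colimit.ι (F A) V))

theorem smap_ι {V W : D.affineOpens} (h : V ≤ W) : smap A h ≫ ι A W = ι A V :=
  colimit.w (F A) (homOfLE h)

theorem ι_surj (y : Gl A) : ∃ (V : D.affineOpens) (z : Spec (CommRingCat.of (A.R V))), ι A V z = y :=
  Scheme.IsLocallyDirected.ι_jointly_surjective (F A) y

theorem ι_eq {V W : D.affineOpens} {y : Spec (CommRingCat.of (A.R V))}
    {z : Spec (CommRingCat.of (A.R W))} (h : ι A V y = ι A W z) :
    ∃ (S : D.affineOpens) (hV : S ≤ V) (hW : S ≤ W)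
      (w : Spec (CommRingCat.of (A.R S))), smap A hV w = y ∧ smap A hW w = z := by
  obtain ⟨S, f, g, w, hf, hg⟩ := (Scheme.IsLocallyDirected.ι_eq_ι_iff (F A)).mp h
  exact ⟨S, leOfHom f, leOfHom g, w, hf, hg⟩

/-- Morphisms out of the glued scheme. -/
theorem exists_desc {T : Scheme.{u}} (f : ∀ V : D.affineOpens, Spec (CommRingCat.of (A.R V)) ⟶ T)
    (hf : ∀ {V W : D.affineOpens} (h : V ≤ W), smap A h ≫ f W = f V) :
    ∃ g : Gl A ⟶ T, ∀ V, ι A V ≫ g = f V :=
  ⟨colimit.desc (F A) ⟨T, ⟨f, fun V W h => (hf (leOfHom h)).trans (Category.comp_id (f V)).symm⟩⟩,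
    fun V => colimit.ι_desc _ _⟩

theorem exists_mem (x : D) : ∃ V : D.affineOpens, x ∈ V.1 := by
  obtain ⟨V, hV, hx, -⟩ := exists_isAffineOpen_mem_and_subset (U := ⊤) (x := x) trivial
  exact ⟨⟨V, hV⟩, hx⟩

theorem exists_i : ∃ i : D ⟶ Gl A, ∀ V : D.affineOpens, V.2.fromSpec ≫ i = pS A V ≫ ι A V := by
  apply exists_glue (fun V : D.affineOpens => Spec Γ(D, V.1)) (fun V => V.2.fromSpec)
    (fun V => pS A V ≫ ι A V)
  · intro x
    obtain ⟨V, hV⟩ := exists_mem x
    exact ⟨V, by rw [V.2.range_fromSpec]; exact hV⟩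
  · intro V W x hx hy
    rw [IsAffineOpen.range_fromSpec] at hx hy
    obtain ⟨c, hc1, hc2⟩ := exists_basic A V W.1 x hy hx
    have h : basic A V c ≤ V := basic_le A V c
    have h' : basic A V c ≤ W := hc2
    refine ⟨basic A V c, Spec.map (D.presheaf.map (homOfLE (show (basic A V c).1 ≤ V.1 from h)).op),
      Spec.map (D.presheaf.map (homOfLE (show (basic A V c).1 ≤ W.1 from h')).op),
      IsAffineOpen.map_fromSpec _ _ _,
      IsAffineOpen.map_fromSpec _ _ _, ?_, ?_⟩
    · rw [IsAffineOpen.range_fromSpec]; exact hc1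
    · rw [← Category.assoc, ← pS_smap A h, ← Category.assoc, ← pS_smap A h', Category.assoc, smap_ι,
        Category.assoc, smap_ι]

/-- The closed immersion of `D` in the glued scheme. -/
noncomputable def incl : D ⟶ Gl A := (exists_i A).choose

theorem fromSpec_incl (V : D.affineOpens) : V.2.fromSpec ≫ incl A = pS A V ≫ ι A V :=
  (exists_i A).choose_spec V

/-- The open subset of the glued scheme corresponding to an affine open. -/
noncomputable def O (V : D.affineOpens) : (Gl A).Opens := (ι A V).opensRange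

theorem isAffineOpen_O (V : D.affineOpens) : IsAffineOpen (O A V) := isAffineOpen_opensRange _

theorem O_mono {V W : D.affineOpens} (h : V ≤ W) : O A V ≤ O A W := by
  rintro _ ⟨z, rfl⟩
  rw [← smap_ι A h]
  exact ⟨smap A h z, rfl⟩

theorem preimage_O (V : D.affineOpens) : incl A ⁻¹ᵁ O A V = V.1 := by
  apply le_antisymm
  · rintro x ⟨y, hy⟩
    obtain ⟨W, hW⟩ := exists_mem x
    obtain ⟨x', rfl⟩ : x ∈ Set.range W.2.fromSpec := by rw [W.2.range_fromSpec]; exact hW
    have hy' : ι A V y = (incl A) (W.2.fromSpec x') := hy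
    rw [← Scheme.Hom.comp_apply, fromSpec_incl, Scheme.Hom.comp_apply] at hy'
    obtain ⟨S, hSV, hSW, w, hw1, hw2⟩ := ι_eq A hy'
    obtain ⟨c, hc1, hc2⟩ := exists_basic_prime A hSW w
    have h3 : W.2.fromSpec x' ∈ D.basicOpen (A.p W c) := by
      rw [pS_mem, ← hw2]
      exact hc1
    exact hSV (hc2 h3)
  · intro x hx
    obtain ⟨x', rfl⟩ : x ∈ Set.range V.2.fromSpec := by rw [V.2.range_fromSpec]; exact hx
    change incl A (V.2.fromSpec x') ∈ O A V
    rw [← Scheme.Hom.comp_apply, fromSpec_incl, Scheme.Hom.comp_apply]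
    exact ⟨_, rfl⟩

theorem isPullback_incl (V : D.affineOpens) : IsPullback (pS A V) V.2.fromSpec (ι A V) (incl A) := by
  refine IsOpenImmersion.isPullback _ _ _ _ (fromSpec_incl A V) ?_
  rw [V.2.opensRange_fromSpec]
  exact preimage_O A V

/-- The cover by charts -/
noncomputable def cov : (Gl A).OpenCover where
  I₀ := D.affineOpens
  X V := Spec (CommRingCat.of (A.R V))
  f V := ι A V
  mem₀ := by
    rw [Scheme.presieve₀_mem_precoverage_iff]
    exact ⟨ι_surj A, inferInstance⟩

instance isClosedImmersion_incl : IsClosedImmersion (incl A) := by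
  refine IsZariskiLocalAtTarget.of_openCover (P := @IsClosedImmersion) (cov A) fun V => ?_
  have h := isPullback_incl A V
  have : (cov A).pullbackHom (incl A) V = h.flip.isoPullback.inv ≫ pS A V :=
    (Iso.eq_inv_comp _).mpr h.flip.isoPullback_hom_snd
  rw [this]
  have := IsClosedImmersion.spec_of_surjective (CommRingCat.ofHom (A.p V)) (A.surj V)
  exact (MorphismProperty.cancel_left_of_respectsIso @IsClosedImmersion _ _).mpr this

instance surjective_incl : Surjective (incl A) := by
  refine ⟨fun y => ?_⟩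
  obtain ⟨V, z, rfl⟩ := ι_surj A y
  obtain ⟨x, rfl⟩ := pS_surj A z
  exact ⟨V.2.fromSpec x, by rw [← Scheme.Hom.comp_apply, fromSpec_incl, Scheme.Hom.comp_apply]⟩

end K953.AlgGlue
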