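import Groth.Agent.MultCurve.K953.AlgGlue
import Groth.Agent.OmegaSh.K583.DerAffine
import Groth.Agent.Fdesc.LocGen

/-!
# Sections of the glued thickening
-/

set_option autoImplicit false

open AlgebraicGeometry CategoryTheory Limits TopologicalSpace Opposite
open Groth.Agent.FlatB.PushRing Groth.Agent.FlatB.PushGlue
open K953.AlgGlue

universe u

namespace K953.AlgSec

variable {D : Scheme.{u}} (A : AlgDat D)

theorem le_pre (V : D.affineOpens) : ⊤ ≤ ι A V ⁻¹ᵁ O A V := fun x _ => ⟨x, rfl⟩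

/-- Sections over the open attached to an affine open -/
noncomputable def ev (V : D.affineOpens) : Γ(Gl A, O A V) →+* A.R V :=
  ((ι A V).appLE (O A V) ⊤ (le_pre A V) ≫ (Scheme.ΓSpecIso (CommRingCat.of (A.R V))).hom).hom

theorem ev_bijective (V : D.affineOpens) : Function.Bijective (ev A V) := by
  have h1 : IsIso ((ι A V).app (O A V)) := (ι A V).isIso_app _ le_rfl
  have h2 : ι A V ⁻¹ᵁ O A V = ⊤ := top_le_iff.mp (le_pre A V)
  have h3 : IsIso ((Spec (CommRingCat.of (A.R V))).presheaf.map (homOfLE (le_pre A V)).op) := by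
    have : (homOfLE (le_pre A V)) = eqToHom h2.symm := rfl
    rw [this]
    infer_instance
  have h4 : IsIso ((ι A V).appLE (O A V) ⊤ (le_pre A V) ≫
      (Scheme.ΓSpecIso (CommRingCat.of (A.R V))).hom) := by
    unfold Scheme.Hom.appLE
    infer_instance
  exact (ConcreteCategory.isIso_iff_bijective _).mp h4

theorem ev_res {V W : D.affineOpens} (h : V ≤ W) (a : Γ(Gl A, O A W)) :
    ev A V ((Gl A).presheaf.map (homOfLE (O_mono A h)).op a) = A.r h (ev A W a) := by
  have h1 : (Gl A).presheaf.map (homOfLE (O_mono A h)).op ≫ (ι A V).appLE (O A V) ⊤ (le_pre A V) =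
      (ι A W).appLE (O A W) ⊤ (le_pre A W) ≫ (smap A h).appLE ⊤ ⊤ le_rfl := by
    rw [Scheme.Hom.map_appLE, Scheme.Hom.appLE_comp_appLE]
    simp only [smap_ι]
  have h2 : (smap A h).appLE ⊤ ⊤ le_rfl ≫ (Scheme.ΓSpecIso (CommRingCat.of (A.R V))).hom =
      (Scheme.ΓSpecIso (CommRingCat.of (A.R W))).hom ≫ CommRingCat.ofHom (A.r h) := by
    have e : (smap A h).appLE ⊤ ⊤ le_rfl = (smap A h).appTop := (smap A h).app_eq_appLE.symm
    rw [e]
    exact Scheme.ΓSpecIso_naturality _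
  have h3 : (Gl A).presheaf.map (homOfLE (O_mono A h)).op ≫
      ((ι A V).appLE (O A V) ⊤ (le_pre A V) ≫ (Scheme.ΓSpecIso (CommRingCat.of (A.R V))).hom) =
      ((ι A W).appLE (O A W) ⊤ (le_pre A W) ≫ (Scheme.ΓSpecIso (CommRingCat.of (A.R W))).hom) ≫
        CommRingCat.ofHom (A.r h) := by
    rw [← Category.assoc, h1, Category.assoc, h2, Category.assoc]
  exact congr($h3 a)

theorem appLE_fromSpec_self {U : D.Opens} (hU : IsAffineOpen U) (e : ⊤ ≤ hU.fromSpec ⁻¹ᵁ U) :
    hU.fromSpec.appLE U ⊤ e ≫ (Scheme.ΓSpecIso Γ(D, U)).hom = 𝟙 _ := by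
  have h : hU.fromSpec.appLE U ⊤ e = (Scheme.ΓSpecIso Γ(D, U)).inv := by
    unfold Scheme.Hom.appLE
    rw [hU.fromSpec_app_self, Category.assoc, ← Functor.map_comp]
    exact (congrArg _ (CategoryTheory.Functor.map_id _ _)).trans (Category.comp_id _)
  rw [h, Iso.inv_hom_id]

theorem le_incl (V : D.affineOpens) : V.1 ≤ incl A ⁻¹ᵁ O A V := (preimage_O A V).ge

theorem incl_appLE (V : D.affineOpens) (a : Γ(Gl A, O A V)) :
    (incl A).appLE (O A V) V.1 (le_incl A V) a = A.p V (ev A V a) := by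
  have e0 : ⊤ ≤ V.2.fromSpec ⁻¹ᵁ V.1 := V.2.fromSpec_preimage_self.ge
  have h1 : (incl A).appLE (O A V) V.1 (le_incl A V) ≫ V.2.fromSpec.appLE V.1 ⊤ e0 =
      (ι A V).appLE (O A V) ⊤ (le_pre A V) ≫ (pS A V).appLE ⊤ ⊤ le_rfl := by
    rw [Scheme.Hom.appLE_comp_appLE, Scheme.Hom.appLE_comp_appLE]
    simp only [fromSpec_incl]
  have h2 : (pS A V).appLE ⊤ ⊤ le_rfl ≫ (Scheme.ΓSpecIso Γ(D, V.1)).hom =
      (Scheme.ΓSpecIso (CommRingCat.of (A.R V))).hom ≫ CommRingCat.ofHom (A.p V) := by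
    have e : (pS A V).appLE ⊤ ⊤ le_rfl = (pS A V).appTop := (pS A V).app_eq_appLE.symm
    rw [e]
    exact Scheme.ΓSpecIso_naturality _
  have h3 : (incl A).appLE (O A V) V.1 (le_incl A V) =
      ((ι A V).appLE (O A V) ⊤ (le_pre A V) ≫ (Scheme.ΓSpecIso (CommRingCat.of (A.R V))).hom) ≫
        CommRingCat.ofHom (A.p V) := by
    rw [Category.assoc, ← h2, ← Category.assoc, ← h1, Category.assoc, appLE_fromSpec_self,
      Category.comp_id]
  exact congr($h3 a)

theorem le_of_preimage_le {U U' : (Gl A).Opens} (h : incl A ⁻¹ᵁ U ≤ incl A ⁻¹ᵁ U') : U ≤ U' := by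
  intro y hy
  obtain ⟨x, rfl⟩ := (incl A).surjective y
  exact h hy

theorem O_eq {V : D.affineOpens} {U : (Gl A).Opens} (h : incl A ⁻¹ᵁ U = V.1) : O A V = U :=
  le_antisymm (le_of_preimage_le A (by rw [preimage_O, h])) (le_of_preimage_le A (by rw [preimage_O, h]))

theorem isBasis_O : Opens.IsBasis (Set.range (O A)) := by
  rw [Opens.isBasis_iff_nbhd]
  intro U y hy
  obtain ⟨x, rfl⟩ := (incl A).surjective y
  obtain ⟨V, hV, hx, hVU⟩ := exists_isAffineOpen_mem_and_subset (U := incl A ⁻¹ᵁ U) (x := x) hy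
  refine ⟨O A ⟨V, hV⟩, ⟨_, rfl⟩, ?_, ?_⟩
  · change x ∈ incl A ⁻¹ᵁ O A ⟨V, hV⟩
    rw [preimage_O]
    exact hx
  · apply le_of_preimage_le
    rw [preimage_O]
    exact hVU

section Der

open OmegaSh K583.DerAffine Groth.Agent.Fdesc.LocGen

variable {Y : Scheme.{u}} (f : Gl A ⟶ Y) (E : D.Modules) (δ : ∀ V : D.affineOpens, A.R V →+ Γ(E, V.1))

/-- Derivations of the glued scheme. -/
theorem exists_der (hr : ∀ {V W : D.affineOpens} (h : V ≤ W) (x : A.R W),
      δ V (A.r h x) = res E (show V.1 ≤ W.1 from h) (δ W x))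
    (hmul : ∀ (V : D.affineOpens) (x y : A.R V), δ V (x * y) = A.p V x • δ V y + A.p V y • δ V x)
    (hY : ∀ (x : Y) (U : Y.Opens), x ∈ U → ∃ (U' : Y.Opens) (h : U' ≤ U), x ∈ U' ∧
      ∀ (V : D.affineOpens) (e : O A V ≤ f ⁻¹ᵁ U') (c : Γ(Y, U)),
        δ V (ev A V (f.appLE U (O A V) (e.trans (f.preimage_mono h)) c)) = 0) :
    ∃ d : Der f ((Scheme.Modules.pushforward (incl A)).obj E), ∀ (V : D.affineOpens)
      (a : Γ(Gl A, O A V)), res E (le_incl A V) (show Γ(E, incl A ⁻¹ᵁ O A V) from d.app (O A V) a) =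
        δ V (ev A V a) := by
  let M := (Scheme.Modules.pushforward (incl A)).obj E
  let φ : ∀ V : D.affineOpens, Γ(Gl A, O A V) →+ Γ(M, O A V) := fun V =>
    (show Γ(E, V.1) →+ Γ(M, O A V) from res E (preimage_O A V).le).comp
      ((δ V).comp (ev A V).toAddMonoidHom)
  have hφ : ∀ V a, φ V a = (show Γ(M, O A V) from res E (preimage_O A V).le (δ V (ev A V a))) :=
    fun _ _ => rfl
  obtain ⟨d, hdm, hdr, hd⟩ := exists_of_basis (isBasis_O A) M φ (by
    intro W V h a
    have h' : V ≤ W := by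
      have := (incl A).preimage_mono h
      rw [preimage_O, preimage_O] at this
      exact this
    rw [hφ, hφ, ev_res A h', hr h']
    change res E _ (res E _ _) = res E _ (res E _ _)
    rw [res_res, res_res]) (by
    intro V a b
    rw [hφ, hφ, hφ, map_mul, hmul, map_add]
    have e1 : ∀ (a : Γ(Gl A, O A V)) (s : Γ(E, V.1)),
        (show Γ(M, O A V) from res E (preimage_O A V).le (A.p V (ev A V a) • s)) =
        a • (show Γ(M, O A V) from res E (preimage_O A V).le s) := by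
      intro a s
      change res E (preimage_O A V).le (A.p V (ev A V a) • s) =
        (incl A).app (O A V) a • res E (preimage_O A V).le s
      rw [res_smul]
      congr 1
      rw [← incl_appLE]
      change D.presheaf.map _ (D.presheaf.map _ _) = _
      rw [← CommRingCat.comp_apply, ← Functor.map_comp]
      have e2 : (homOfLE (le_incl A V)).op ≫ (homOfLE (preimage_O A V).le).op = 𝟙 _ := rfl
      rw [e2, CategoryTheory.Functor.map_id]
      rfl
    rw [← e1, ← e1]
    rfl)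
  refine ⟨mkDer f M d hdm hdr ?_, ?_⟩
  · intro U c
    apply eq_of_locally
    intro y hy
    obtain ⟨U', hU', hyU', H⟩ := hY (f y) U hy
    obtain ⟨_, ⟨V, rfl⟩, hyV, hVU⟩ := (Opens.isBasis_iff_nbhd.mp (isBasis_O A)) (show y ∈ f ⁻¹ᵁ U' from hyU')
    refine ⟨O A V, hVU.trans (f.preimage_mono hU'), hyV, ?_⟩
    rw [map_zero, ← hdr]
    have e1 : (Gl A).presheaf.map (homOfLE (hVU.trans (f.preimage_mono hU'))).op (f.app U c) =
        f.appLE U (O A V) (hVU.trans (f.preimage_mono hU')) c := rfl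
    rw [e1, hd, hφ, H V hVU c, map_zero]
    rfl
  · intro V a
    rw [mkDer_app, hd, hφ]
    change res E _ (res E _ _) = _
    rw [res_res, res_refl]

end Der

end K953.AlgSec
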