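import Groth.Agent.MultCurve.K953.Basic
import Groth.Agent.OmegaSh.K584.PullCon
import Groth.Agent.KoszSh.K880.Acyclic
import Groth.Agent.Fdesc.LocGen
import Groth.Agent.Krr.H496.GenLocus

/-!
# The conormal sheaf of a square-zero ideal is invertible iff the ideal is principal of order two
-/

set_option autoImplicit false

universe u

open CategoryTheory CategoryTheory.Limits AlgebraicGeometry Opposite TopologicalSpace

namespace K953.MultConormal

open Groth.Agent.PerfA.IdealModule Groth.Agent.Sga67.Sec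
open Groth.Agent.Dual.H366.ConSec Groth.Agent.Dual.H366.Conormal
open Groth.Agent.UnramB.FirstOrderNbhd (SqZ)
open K584.PullCon

section

variable {D C : Scheme.{u}} (i : D ⟶ C) [IsClosedImmersion i]

omit [IsClosedImmersion i] in
theorem cS_smul (V : C.Opens) (a : Γ(C, V)) (x : Sec (ClSub.idealMod i.ker) V) :
    cS i V (a • x) = i.app V a • cS i V x := secS_smul i _ V a x

theorem app_eq_zero_iff_mem {V : C.Opens} (hV : IsAffineOpen V) (a : Γ(C, V)) :
    i.app V a = 0 ↔ a ∈ i.ker.ideal ⟨V, hV⟩ := by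
  rw [Scheme.Hom.ker_apply, RingHom.mem_ker]

theorem valS_mem {V : C.Opens} (hV : IsAffineOpen V) (x : Sec (ClSub.idealMod i.ker) V) :
    valS i V x ∈ i.ker.ideal ⟨V, hV⟩ := by
  rw [← app_eq_zero_iff_mem i hV, app_eq_zero_iffS]
  exact ⟨x, rfl⟩

/-- If the ideal is generated by `z` with annihilator in the ideal, the class of `z` is a local
generator of the conormal sheaf. -/
theorem isInvertible_of_isPrincipal (hi : SqZ i) (h : MultCurve.IsPrincipalOfOrder i.ker 2) :
    PicF.IsInvertible (Omega.conormal i) := by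
  rw [Groth.Agent.Fdesc.LocGen.isInvertible_iff]
  intro x
  obtain ⟨⟨U, hU⟩, hxU, z, hz, hann⟩ := h (i x)
  change i x ∈ U at hxU
  have hz0 : i.app U z = 0 := by
    rw [app_eq_zero_iff_mem i hU, hz]
    exact Ideal.mem_span_singleton_self z
  obtain ⟨ζ, hζ⟩ := (app_eq_zero_iffS i U z).mp hz0
  have hinj : ∀ a : Γ(D, i ⁻¹ᵁ U), a • cS i U ζ = 0 → a = 0 := by
    intro a ha
    obtain ⟨b, rfl⟩ := i.app_surjective U hU a
    rw [← cS_smul] at ha
    have h1 : b • ζ = 0 := cS_injective i hi hU (by rw [ha, map_zero])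
    have h2 : b * z = 0 := by
      have := congrArg (valS i U) h1
      rw [map_smul, map_zero, hζ] at this
      exact this
    rw [app_eq_zero_iff_mem i hU]
    exact hann b (by simpa using h2)
  have hsurj : ∀ y : Sec (Omega.conormal i) (i ⁻¹ᵁ U), ∃ a : Γ(D, i ⁻¹ᵁ U), a • cS i U ζ = y := by
    intro y
    obtain ⟨η, rfl⟩ := cS_surjective i hU y
    have h1 := valS_mem i hU η
    rw [hz, Ideal.mem_span_singleton] at h1
    obtain ⟨b, hb⟩ := h1
    refine ⟨i.app U b, ?_⟩
    rw [← cS_smul]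
    congr 1
    apply valS_injective
    rw [map_smul, hζ, hb, smul_eq_mul, mul_comm]
  let L : Γ(D, i ⁻¹ᵁ U) →ₗ[Γ(D, i ⁻¹ᵁ U)] Sec (Omega.conormal i) (i ⁻¹ᵁ U) :=
    LinearMap.toSpanSingleton _ _ (cS i U ζ)
  have hL : Function.Bijective L := by
    constructor
    · rw [injective_iff_map_eq_zero]
      exact hinj
    · exact hsurj
  let b : Module.Basis (Fin 1) Γ(D, i ⁻¹ᵁ U) (Sec (Omega.conormal i) (i ⁻¹ᵁ U)) :=
    (Module.Basis.singleton (Fin 1) _).map (LinearEquiv.ofBijective L hL)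
  have hb := K880.Acyclic.isLocBasis_of_isQCoh (isQCoh_conormal i) (hU.preimage i) b
  have hg : Groth.Agent.Krr.H496.GenLocus.IsGen (L := Omega.conormal i) (b 0) := by
    unfold Groth.Agent.Krr.H496.GenLocus.IsGen
    convert hb using 2 with j
    rw [Subsingleton.elim j 0]
    rfl
  rw [Groth.Agent.Krr.H496.GenLocus.isGen_iff] at hg
  exact ⟨i ⁻¹ᵁ U, b 0, hxU, hg⟩

/-- If the conormal sheaf is invertible then the square-zero ideal is principal of order two. -/
theorem isPrincipal_of_isInvertible [Surjective i] (hi : SqZ i)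
    (h : PicF.IsInvertible (Omega.conormal i)) : MultCurve.IsPrincipalOfOrder i.ker 2 := by
  intro x
  obtain ⟨d, rfl⟩ := i.surjective x
  rw [Groth.Agent.Fdesc.LocGen.isInvertible_iff] at h
  obtain ⟨W, e, hdW, he⟩ := h d
  obtain ⟨W', hW'⟩ : ∃ W' : C.Opens, i ⁻¹ᵁ W' = W := by
    obtain ⟨O, hO, hO'⟩ := i.isClosedEmbedding.isInducing.isOpen_iff.mp W.2
    exact ⟨⟨O, hO⟩, Opens.ext hO'⟩
  subst hW'
  obtain ⟨_, ⟨U, hU, rfl⟩, hxU, hUW⟩ :=
    C.isBasis_affineOpens.exists_subset_of_mem_open (show i d ∈ W' from hdW) W'.2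
  have hUW : U ≤ W' := hUW
  refine ⟨⟨U, hU⟩, hxU, ?_⟩
  have he' := he (i ⁻¹ᵁ U) (i.preimage_mono hUW)
  obtain ⟨ζ, hζ⟩ := cS_surjective i hU (res (Omega.conormal i) (i.preimage_mono hUW) e)
  have hbij : Function.Bijective fun a : Γ(D, i ⁻¹ᵁ U) => a • cS i U ζ := by
    rw [hζ]
    exact he'
  refine ⟨valS i U ζ, ?_, ?_⟩
  · apply le_antisymm
    · intro y hy
      obtain ⟨η, hη⟩ := (app_eq_zero_iffS i U y).mp ((app_eq_zero_iff_mem i hU y).mpr hy)
      obtain ⟨a, ha⟩ := hbij.2 (cS i U η)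
      obtain ⟨b, rfl⟩ := i.app_surjective U hU a
      change i.app U b • cS i U ζ = _ at ha
      rw [← cS_smul] at ha
      have h1 : b • ζ = η := cS_injective i hi hU ha
      rw [Ideal.mem_span_singleton]
      exact ⟨b, by rw [← hη, ← h1, map_smul, smul_eq_mul, mul_comm]⟩
    · rw [Ideal.span_singleton_le_iff_mem]
      exact valS_mem i hU ζ
  · intro a ha
    rw [← app_eq_zero_iff_mem i hU]
    apply hbij.1
    change i.app U a • cS i U ζ = (0 : Γ(D, i ⁻¹ᵁ U)) • cS i U ζ
    rw [zero_smul, ← cS_smul]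
    have h1 : a • ζ = 0 := by
      apply valS_injective
      rw [map_smul, map_zero, smul_eq_mul]
      simpa using ha
    rw [h1, map_zero]

end

theorem isPrincipalOfOrder_two_iff (C : Scheme.{u}) (I : C.IdealSheafData) (hI : I ^ 2 = ⊥) :
    MultCurve.IsPrincipalOfOrder I 2 ↔ PicF.IsInvertible (Omega.conormal I.subschemeι) := by
  have hk : I.subschemeι.ker = I := I.ker_subschemeι
  have h2 : I.subschemeι.ker ^ 2 = ⊥ := by rw [hk, hI]
  have hi : SqZ I.subschemeι := SqZ.of_ker _ h2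
  have := K953.MultBasic.surjective_of_ker_pow I.subschemeι 2 h2
  constructor
  · intro h
    exact isInvertible_of_isPrincipal _ hi (hk.symm ▸ h)
  · intro h
    have := isPrincipal_of_isInvertible _ hi h
    rwa [hk] at this

end K953.MultConormal
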