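import Groth.Agent.MultCurve.K953.ExtKill
import Groth.Agent.MultCurve.K953.AlgFactor
import Groth.Agent.CohqB.HomSheaf
import Groth.Agent.PerfA.OUTF
import Groth.Agent.PerfA.AffVan
import Groth.Agent.PerfA.CohSerre
import Groth.Agent.PerfB.TildeExact
import Groth.Agent.Ega3B.TensorAUnit
import Groth.Agent.Ega1.FTAffine
import Groth.Agent.S2310

/-!
# An ideal power kills the higher extension groups over an affine open

`W` affine open of `X`, `A = Γ(X, W)` Noetherian, `I` an ideal of `A` with `A/I` a Dedekind domain such that the elements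
outside `I` are nonzerodivisors, `s ∈ A` with `s I = 0`.  For `E` coherent and `F` quasi-coherent, the multiplication by
`s` on the extension by zero of `E|_W` acts as zero on `Ext^q(E_W, F)` for `q ≥ 2`.
-/

set_option autoImplicit false

universe w u v u'

open CategoryTheory CategoryTheory.Limits AlgebraicGeometry Opposite TopologicalSpace CategoryTheory.Abelian

namespace K953.ExtAffine

theorem comp_kill {C : Type u'} [Category.{v} C] [Abelian C] [HasExt.{w} C] {P Q Q' P' F : C} {q : ℕ} (a : P ⟶ Q)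
    (c : Q ⟶ Q') (b : Q' ⟶ P') (h : ∀ y : Ext Q' F q, (Ext.mk₀ c).comp y (zero_add q) = 0) (x : Ext P' F q) :
    (Ext.mk₀ (a ≫ c ≫ b)).comp x (zero_add q) = 0 := by
  rw [← Ext.mk₀_comp_mk₀_assoc, ← Ext.mk₀_comp_mk₀_assoc, h, Ext.comp_zero]

section Alg

variable {A : Type u} [CommRing A] {C : Type u'} [Category.{v} C] [Abelian C] [HasExt.{w} C]

theorem id_eq_sum (r : ℕ) : 𝟙 (ModuleCat.of A (Fin r → A)) =
    ∑ i : Fin r, ModuleCat.ofHom (LinearMap.proj i : (Fin r → A) →ₗ[A] A) ≫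
      ModuleCat.ofHom (LinearMap.single A (fun _ : Fin r => A) i) := by
  apply ModuleCat.hom_ext
  refine LinearMap.ext fun x => ?_
  rw [ModuleCat.hom_sum]
  simp only [ModuleCat.hom_comp, ModuleCat.hom_ofHom, LinearMap.sum_apply, LinearMap.comp_apply, LinearMap.proj_apply,
    ModuleCat.hom_id, LinearMap.id_apply]
  funext j
  simp [Finset.sum_apply, Pi.single_apply]

theorem free_vanish (Φ : ModuleCat.{u} A ⥤ C) [Φ.Additive] (F : C) (q : ℕ)
    (h : ∀ x : Ext (Φ.obj (ModuleCat.of A A)) F q, x = 0) (r : ℕ)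
    (x : Ext (Φ.obj (ModuleCat.of A (Fin r → A))) F q) : x = 0 := by
  have h1 : (Ext.mk₀ (Φ.map (𝟙 (ModuleCat.of A (Fin r → A))))).comp x (zero_add q) = x := by
    rw [Φ.map_id, Ext.mk₀_id_comp]
  rw [← h1, id_eq_sum, Functor.map_sum, Ext.mk₀_sum, Ext.sum_comp]
  refine Finset.sum_eq_zero fun i _ => ?_
  rw [Functor.map_comp, ← Ext.mk₀_comp_mk₀_assoc, h ((Ext.mk₀ (Φ.map (ModuleCat.ofHom
    (LinearMap.single A (fun _ : Fin r => A) i)))).comp x (zero_add q)), Ext.comp_zero]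

theorem kill_of_functor [IsNoetherianRing A] (I : Ideal A) [I.IsPrime] [IsDedekindDomain (A ⧸ I)] (s : A)
    (hs : ∀ a ∈ I, s * a = 0) (hA : ∀ x : A, x ∉ I → ∀ a, x * a = 0 → a = 0)
    (Φ : ModuleCat.{u} A ⥤ C) [Φ.Additive] [PreservesFiniteLimits Φ] [PreservesFiniteColimits Φ] (F : C)
    (hF : ∀ q, 1 ≤ q → ∀ x : Ext (Φ.obj (ModuleCat.of A A)) F q, x = 0) (M : ModuleCat.{u} A) [Module.Finite A M]
    {q : ℕ} (hq : 2 ≤ q) (x : Ext (Φ.obj M) F q) : (Ext.mk₀ (Φ.map (s • 𝟙 M))).comp x (zero_add q) = 0 := by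
  obtain ⟨r, π, hπ⟩ := Module.Finite.exists_fin' A M
  let K : Submodule A (Fin r → A) := LinearMap.ker π
  have hK : ∀ x : A, x ∉ I → ∀ m : K, x • m = 0 → m = 0 := by
    intro x hx m hm
    apply Subtype.ext
    funext i
    have := congrFun (congrArg Subtype.val hm) i
    exact hA x hx _ this
  obtain ⟨r', α, β, hαβ⟩ := AlgFactor.exists_factor I s hs (K := K) hK
  let S : ShortComplex (ModuleCat.{u} A) := ShortComplex.mk (ModuleCat.ofHom K.subtype) (ModuleCat.ofHom π) (by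
    apply ModuleCat.hom_ext
    refine LinearMap.ext fun y => ?_
    exact y.2)
  have hS : S.ShortExact :=
    { exact := by
        rw [ShortComplex.moduleCat_exact_iff]
        intro y hy
        exact ⟨⟨y, hy⟩, rfl⟩
      mono_f := (ModuleCat.mono_iff_injective _).2 Subtype.val_injective
      epi_g := (ModuleCat.epi_iff_surjective _).2 hπ }
  have hS' : (S.map Φ).ShortExact := hS.map_of_exact Φ
  let a : S ⟶ S := { τ₁ := s • 𝟙 _, τ₂ := s • 𝟙 _, τ₃ := s • 𝟙 _ }
  have ha : (Φ.mapShortComplex.map a).τ₁ = Φ.map (ModuleCat.ofHom α) ≫ Φ.map (ModuleCat.ofHom β) := by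
    rw [← Functor.map_comp]
    change Φ.map (s • 𝟙 _) = _
    congr 1
    apply ModuleCat.hom_ext
    refine LinearMap.ext fun m => ?_
    exact (hαβ m).symm
  exact ExtKill.kill hS' (Φ.mapShortComplex.map a) (Φ.map (ModuleCat.ofHom α)) (Φ.map (ModuleCat.ofHom β)) ha
    (fun q hq x => free_vanish Φ F q (hF q hq) r x) (fun q hq x => free_vanish Φ F q (hF q hq) r' x) hq x

end Alg

section Geo

open Groth.Agent Groth.Agent.PerfC.ExtZero Groth.Agent.PerfA.TFMV Groth.Agent.PerfA.OUTF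

variable {X : Scheme.{u}} [HasExt.{w} X.Modules]

omit [HasExt.{w} X.Modules] in
theorem phi_colim (R : CommRingCat.{u}) (j : Spec R ⟶ X) [IsOpenImmersion j] :
    PreservesFiniteColimits (tilde.functor R ⋙ jShriek j) :=
  comp_preservesFiniteColimits (tilde.functor R) (jShriek j)

omit [HasExt.{w} X.Modules] in
theorem phi_lim (R : CommRingCat.{u}) (j : Spec R ⟶ X) [IsOpenImmersion j] :
    PreservesFiniteLimits (tilde.functor R ⋙ jShriek j) :=
  have := Groth.Agent.PerfB.TildeExact.preservesFiniteLimits_tilde R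
  comp_preservesFiniteLimits (tilde.functor R) (jShriek j)

omit [HasExt.{w} X.Modules] in
theorem phi_add (R : CommRingCat.{u}) (j : Spec R ⟶ X) [IsOpenImmersion j] :
    (tilde.functor R ⋙ jShriek j).Additive := inferInstance

/-- vanishing on `j_! O` -/
theorem vanish (A : Type u) [CommRing A] (j : Spec (CommRingCat.of A) ⟶ X) [IsOpenImmersion j] (F : X.Modules)
    (hF : Coh.IsQCoh F) (q : ℕ) (hq : 1 ≤ q)
    (x : Ext ((tilde.functor (CommRingCat.of A) ⋙ jShriek j).obj (ModuleCat.of A A)) F q) : x = 0 := by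
  obtain ⟨p, rfl⟩ : ∃ p, q = p + 1 := ⟨q - 1, by omega⟩
  have hW : IsAffineOpen j.opensRange := isAffineOpen_opensRange j
  let e : PerfA.ExtZero.OU j.opensRange ≅ (tilde.functor (CommRingCat.of A) ⋙ jShriek j).obj (ModuleCat.of A A) :=
    isoShriekOfOpenImmersion j
  have h1 := PerfA.AffVan.ext_eq_zero F hF j.opensRange hW p ((Ext.mk₀ e.hom).comp x (zero_add (p + 1)))
  have h2 : x = (Ext.mk₀ e.inv).comp ((Ext.mk₀ e.hom).comp x (zero_add (p + 1))) (zero_add (p + 1)) := by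
    rw [Ext.mk₀_comp_mk₀_assoc, e.inv_hom_id, Ext.mk₀_id_comp]
  rw [h2, h1, Ext.comp_zero]

theorem exists_smul_aux (A : Type u) [CommRing A] (j : Spec (CommRingCat.of A) ⟶ X) [IsOpenImmersion j] (W : X.Opens)
    (hjW : j.opensRange = W) [IsNoetherianRing A] (I : Ideal A) [I.IsPrime] [IsDedekindDomain (A ⧸ I)] (s : A)
    (hs : ∀ a ∈ I, s * a = 0) (hA : ∀ x : A, x ∉ I → ∀ a, x * a = 0 → a = 0)
    (σ : ∀ V : X.Opens, V ≤ W → Γ(X, V))
    (hσ : ∀ (V V' : X.Opens) (hV : V ≤ W) (h : V' ≤ V), X.presheaf.map (homOfLE h).op (σ V hV) = σ V' (h.trans hV))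
    (hσ' : ∀ (V : (Spec (CommRingCat.of A)).Opens) (h : j ''ᵁ V ≤ W),
      (j.appIso V).inv.hom (((Spec (CommRingCat.of A)).presheaf.map (homOfLE le_top).op).hom
        ((Scheme.ΓSpecIso (CommRingCat.of A)).inv.hom s)) = σ (j ''ᵁ V) h)
    (E F : X.Modules) (hE : Coh.IsCoh E) (hF : Coh.IsQCoh F) :
    ∃ ε : (TF W).obj E ⟶ (TF W).obj E,
      (∀ (V : X.Opens) (hV : V ≤ W) (t : Γ((TF W).obj E, V)),
        (inc W E).app V (ε.app V t) = σ V hV • (inc W E).app V t) ∧
      ∀ q, 2 ≤ q → ∀ x : Ext ((TF W).obj E) F q, (Ext.mk₀ ε).comp x (zero_add q) = 0 := by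
  subst hjW
  let ψ : E.restrict j ⟶ E.restrict j := Formal.smulMod A (E.restrict j) s
  let ε : (TF j.opensRange).obj E ⟶ (TF j.opensRange).obj E := tEta j E ≫ (jShriek j).map ψ ≫ inv (tEta j E)
  have h1 : ε ≫ inclT j E ≫ etaR j E = inclT j E ≫ etaR j E ≫ (Scheme.Modules.pushforward j).map ψ := by
    rw [← tEta_inclS, Category.assoc, Category.assoc, IsIso.inv_hom_id_assoc, inclS_naturality, ← Category.assoc,
      tEta_inclS, Category.assoc]
  refine ⟨ε, fun V hV t => ?_, fun q hq x => ?_⟩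
  · have h2 : V ≤ j ''ᵁ (j ⁻¹ᵁ V) := by
      rw [j.image_preimage_eq_opensRange_inf]
      exact le_inf hV le_rfl
    have h3 : j ''ᵁ (j ⁻¹ᵁ V) ≤ V := j.image_preimage_le V
    have h4 := congrArg (fun z : (TF j.opensRange).obj E ⟶ _ => z.app V t) h1
    have h5 : E.presheaf.map (homOfLE h3).op ((inc j.opensRange E).app V (ε.app V t)) =
        σ _ (h3.trans hV) • E.presheaf.map (homOfLE h3).op ((inc j.opensRange E).app V t) := by
      rw [← hσ' (j ⁻¹ᵁ V)]
      exact h4
    have h6 := congrArg (E.presheaf.map (homOfLE h2).op) h5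
    rw [Scheme.Modules.map_smul, hσ, Groth.Agent.CohqB.HomSheaf.res_res, Groth.Agent.CohqB.HomSheaf.res_self,
      Groth.Agent.CohqB.HomSheaf.res_res, Groth.Agent.CohqB.HomSheaf.res_self] at h6
    exact h6
  · obtain ⟨M, ⟨e⟩⟩ := S2310.exists_tilde_iso (R := CommRingCat.of A) (E.restrict j)
      (PerfA.CohSerre.isCoh_restrict j hE).1
    have hM : Module.Finite A M := Ega1.FTAffine.finite_of_isFiniteType M e (PerfA.CohSerre.isCoh_restrict j hE).2
    let Φ : ModuleCat.{u} A ⥤ X.Modules := tilde.functor (CommRingCat.of A) ⋙ jShriek j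
    have h7 : ψ ≫ e.hom = e.hom ≫ (tilde.functor (CommRingCat.of A)).map (s • 𝟙 M) :=
      (FormalB.ModPow.smulMod_naturality e.hom s).trans
        (congrArg (e.hom ≫ ·) (Ega3B.TensorAUnit.tilde_map_smul M s).symm)
    have h7' : ψ = e.hom ≫ (tilde.functor (CommRingCat.of A)).map (s • 𝟙 M) ≫ e.inv := by
      rw [← Category.assoc]
      exact (Iso.eq_comp_inv e).2 h7
    have h8 : ε = (tEta j E ≫ (jShriek j).map e.hom) ≫ Φ.map (s • 𝟙 M) ≫ ((jShriek j).map e.inv ≫ inv (tEta j E)) := by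
      have h9 : (jShriek j).map ψ = (jShriek j).map e.hom ≫ Φ.map (s • 𝟙 M) ≫ (jShriek j).map e.inv :=
        (congrArg (jShriek j).map h7').trans (by rw [Functor.map_comp, Functor.map_comp]; rfl)
      simp only [ε, h9, Category.assoc]
    have hl' : PreservesFiniteLimits Φ := phi_lim (CommRingCat.of A) j
    have hr' : PreservesFiniteColimits Φ := phi_colim (CommRingCat.of A) j
    have ha' : Φ.Additive := phi_add (CommRingCat.of A) j
    rw [h8]
    refine comp_kill _ _ _ (fun y => ?_) x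
    exact kill_of_functor I s hs hA Φ F (fun q hq x => vanish A j F hF q hq x) M hq y

/-- Multiplication by `s` on the extension by zero of `E|_W` acts by zero on the higher extension groups. -/
theorem exists_smul (W : X.Opens) (hW : IsAffineOpen W) [IsNoetherianRing Γ(X, W)] (I : Ideal Γ(X, W)) [I.IsPrime]
    [IsDedekindDomain (Γ(X, W) ⧸ I)] (s : Γ(X, W))
    (hs : ∀ a ∈ I, s * a = 0) (hA : ∀ x : Γ(X, W), x ∉ I → ∀ a, x * a = 0 → a = 0)
    (E F : X.Modules) (hE : Coh.IsCoh E) (hF : Coh.IsQCoh F) :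
    ∃ ε : (TF W).obj E ⟶ (TF W).obj E,
      (∀ (V : X.Opens) (hV : V ≤ W) (t : Γ((TF W).obj E, V)),
        (inc W E).app V (ε.app V t) = X.presheaf.map (homOfLE hV).op s • (inc W E).app V t) ∧
      ∀ q, 2 ≤ q → ∀ x : Ext ((TF W).obj E) F q, (Ext.mk₀ ε).comp x (zero_add q) = 0 := by
  refine exists_smul_aux Γ(X, W) hW.fromSpec W hW.opensRange_fromSpec I s hs hA
    (fun V hV => X.presheaf.map (homOfLE hV).op s) ?_ ?_ E F hE hF
  · intro V V' hV h
    rw [← ConcreteCategory.comp_apply, ← Functor.map_comp]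
    rfl
  · intro V h
    have h1 : X.presheaf.map (homOfLE h).op ≫ (hW.fromSpec.appIso V).hom =
        (Scheme.ΓSpecIso Γ(X, W)).inv ≫ (Spec Γ(X, W)).presheaf.map (homOfLE (le_top : V ≤ ⊤)).op := by
      rw [Scheme.Hom.appIso_hom', Scheme.Hom.map_appLE, Scheme.Hom.appLE, hW.fromSpec_app_self, Category.assoc,
        ← Functor.map_comp]
      rfl
    have h2 : X.presheaf.map (homOfLE h).op =
        (Scheme.ΓSpecIso Γ(X, W)).inv ≫ (Spec Γ(X, W)).presheaf.map (homOfLE (le_top : V ≤ ⊤)).op ≫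
          (hW.fromSpec.appIso V).inv := by
      rw [← Category.assoc, ← h1, Category.assoc, Iso.hom_inv_id, Category.comp_id]
    have h3 := congrArg (fun z => z.hom s) h2
    exact h3.symm

end Geo

end K953.ExtAffine
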