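import Groth.Agent.MultCurve.K953.RibSec

/-!
# Morphisms out of a square-zero thickening and splittings

`i : D ⟶ C` as in `RibSec`, `f : D ⟶ X`, `s : f^* Ω₃ ⟶ i^* Ω₁` with `s ≫ c = df`: there is exactly one
`g : C ⟶ X` extending `f` and compatible with `s` (`exists_hom`, `hom_ext`).
-/

set_option autoImplicit false

universe u

open CategoryTheory CategoryTheory.Limits AlgebraicGeometry Opposite TopologicalSpace

namespace K953.RibHom

open OmegaSh
open Groth.Agent.UnramB.FirstOrderNbhd (SqZ)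
open K583.Retract K583.DerAffine K953.RibSec

section General

variable {X Y X' : Scheme.{u}}

theorem pS_smul (h : X' ⟶ X) (M : X.Modules) (U : X.Opens) (V : X'.Opens) (e : V ≤ h ⁻¹ᵁ U)
    (r : Γ(X, U)) (m : Γ(M, U)) : pS h M U V e (r • m) = h.appLE U V e r • pS h M U V e m := by
  rw [pS_apply, pS_apply, pullSect_smul]
  exact Scheme.Modules.map_smul _ (homOfLE e) (h.app U r) (pullSect h M U m)

theorem der_one {f : X ⟶ Y} {F : X.Modules} (D : Der f F) (U : X.Opens) : D.app U 1 = 0 := by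
  have h := app_mul D U 1 1
  rw [mul_one, one_smul] at h
  exact left_eq_add.mp h

/-- `pullSect` followed by a morphism, over smaller opens. -/
theorem app_pS_gen {h : X' ⟶ X} {M : X.Modules} {N : X'.Modules}
    (s : (Scheme.Modules.pullback h).obj M ⟶ N) (U : X.Opens) (V V' : X'.Opens)
    (e : V ≤ h ⁻¹ᵁ U) (e' : V' ≤ V) (m : Γ(M, U)) :
    N.presheaf.map (homOfLE e').op (s.app V (pS h M U V e m)) =
      s.app V' (pS h M U V' (e'.trans e) m) := by
  rw [← map_pS h M U V V' e e']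
  exact congr($((Scheme.Modules.Hom.mapPresheaf s).naturality (homOfLE e').op)
    (pS h M U V e m)).symm

theorem appLE_appLE_apply {Z : Scheme.{u}} (k : Z ⟶ X') (h : X' ⟶ X) (U : X.Opens)
    (W : X'.Opens) (V : Z.Opens) (e : W ≤ h ⁻¹ᵁ U) (e' : V ≤ k ⁻¹ᵁ W) (a : Γ(X, U)) :
    k.appLE W V e' (h.appLE U W e a) =
      (k ≫ h).appLE U V (e'.trans (k.preimage_mono e)) a := by
  rw [← ConcreteCategory.comp_apply, Scheme.Hom.appLE_comp_appLE]

theorem appLE_congr_apply {h h' : X' ⟶ X} (e : h = h') (U : X.Opens) (V : X'.Opens)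
    (e₁ : V ≤ h ⁻¹ᵁ U) (e₂ : V ≤ h' ⁻¹ᵁ U) (a : Γ(X, U)) :
    h.appLE U V e₁ a = h'.appLE U V e₂ a := by
  subst e
  rfl

end General

variable {D C X S : Scheme.{u}} (i : D ⟶ C) [IsClosedImmersion i] [Surjective i]
  {pC : C ⟶ S} {Ω₁ : C.Modules} {d₁ : Der pC Ω₁}
  {φ : Omega.conormal i ⟶ (Scheme.Modules.pullback i).obj Ω₁}

/-- Two morphisms out of `C` agree if they agree on `D` and on differentials. -/
theorem hom_ext (hi : SqZ i) (hφ : IsConormalDiff i d₁ φ) [Mono φ] {g g' : C ⟶ X}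
    (h : i ≫ g = i ≫ g')
    (H : ∀ (U : X.Opens) (a : Γ(X, U)) (V : D.Opens) (e : V ≤ i ⁻¹ᵁ (g ⁻¹ᵁ U))
      (e' : V ≤ i ⁻¹ᵁ (g' ⁻¹ᵁ U)), pS i Ω₁ (g ⁻¹ᵁ U) V e (d₁.app _ (g.app U a)) =
        pS i Ω₁ (g' ⁻¹ᵁ U) V e' (d₁.app _ (g'.app U a))) : g = g' := by
  have hb : g.base = g'.base := by
    ext x
    obtain ⟨d, rfl⟩ := i.surjective x
    exact congr(($h).base d)
  refine Scheme.Hom.ext hb fun U => ?_
  have hle : g' ⁻¹ᵁ U ≤ g ⁻¹ᵁ U := by
    intro x hx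
    change g.base x ∈ U
    rw [hb]
    exact hx
  ext a
  refine eq_of i hi hφ (g' ⁻¹ᵁ U) _ le_rfl le_rfl
    (C.presheaf.map (homOfLE hle).op (g.app U a)) (g'.app U a) ?_ ?_
  · rw [Scheme.Hom.app_eq_appLE, Scheme.Hom.app_eq_appLE, appLE_map_apply,
      appLE_appLE_apply, appLE_appLE_apply]
    exact appLE_congr_apply h _ _ _ _ _
  · rw [app_map, pS_map]
    exact H U a _ _ _

section Exists

variable {S' : Scheme.{u}} {pD : D ⟶ S'} {Ω₂ : D.Modules} {d₂ : Der pD Ω₂}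
  {c : (Scheme.Modules.pullback i).obj Ω₁ ⟶ Ω₂} {S₃ : Scheme.{u}} {pX : X ⟶ S₃}
  {Ω₃ : X.Modules} {d₃ : Der pX Ω₃} {f : D ⟶ X}
  {df : (Scheme.Modules.pullback f).obj Ω₃ ⟶ Ω₂}
  (s : (Scheme.Modules.pullback f).obj Ω₃ ⟶ (Scheme.Modules.pullback i).obj Ω₁)

/-- The inverse homeomorphism of `i`. -/
noncomputable def homeo : C → D := Function.surjInv i.surjective

omit [IsClosedImmersion i] in
theorem homeo_apply (x : C) : i (homeo i x) = x := Function.surjInv_eq _ x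

theorem apply_homeo (d : D) : homeo i (i d) = d :=
  i.isClosedEmbedding.injective (homeo_apply i (i d))

theorem continuous_homeo : Continuous (homeo i) := by
  rw [continuous_def]
  intro O hO
  obtain ⟨O', hO', rfl⟩ := i.isClosedEmbedding.isInducing.isOpen_iff.mp hO
  have : homeo i ⁻¹' (i ⁻¹' O') = O' := by
    ext x
    change i (homeo i x) ∈ O' ↔ x ∈ O'
    rw [homeo_apply]
  rw [this]
  exact hO'

/-- The open of `C` corresponding to `f⁻¹ U`. -/
noncomputable def Wo (f : D ⟶ X) (U : X.Opens) : C.Opens :=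
  ⟨homeo i ⁻¹' (f ⁻¹ᵁ U), (f ⁻¹ᵁ U).2.preimage (continuous_homeo i)⟩

theorem le₁ (f : D ⟶ X) (U : X.Opens) : f ⁻¹ᵁ U ≤ i ⁻¹ᵁ (Wo i f U) := by
  intro x hx
  change homeo i (i x) ∈ f ⁻¹ᵁ U
  rw [apply_homeo]
  exact hx

theorem le₂ (f : D ⟶ X) (U : X.Opens) : i ⁻¹ᵁ (Wo i f U) ≤ f ⁻¹ᵁ U := by
  intro x hx
  change homeo i (i x) ∈ f ⁻¹ᵁ U at hx
  rw [apply_homeo] at hx
  exact hx

theorem Wo_mono (f : D ⟶ X) {U V : X.Opens} (h : V ≤ U) : Wo i f V ≤ Wo i f U :=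
  fun _ hx => f.preimage_mono h hx

variable {i s}

theorem exists_rho (hi : SqZ i) (hφ : IsConormalDiff i d₁ φ) [Mono φ]
    (hc : IsDiffCompat i d₁ d₂ c) {hw : φ ≫ c = 0} (hex : (ShortComplex.mk φ c hw).Exact)
    (hdf : IsDiffCompat f d₃ d₂ df) (hs : s ≫ c = df) (U : X.Opens) (a : Γ(X, U)) :
    ∃ b : Γ(C, Wo i f U), i.appLE (Wo i f U) (f ⁻¹ᵁ U) (le₁ i f U) b = f.app U a ∧
      pS i Ω₁ (Wo i f U) (f ⁻¹ᵁ U) (le₁ i f U) (d₁.app _ b) =
        s.app (f ⁻¹ᵁ U) (pullSect f Ω₃ U (d₃.app U a)) := by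
  refine exists_of i hi hφ hc hex _ _ _ (le₂ i f U) _ _ ?_
  have h1 : c.app (f ⁻¹ᵁ U) (s.app (f ⁻¹ᵁ U) (pullSect f Ω₃ U (d₃.app U a))) =
      (s ≫ c).app (f ⁻¹ᵁ U) (pullSect f Ω₃ U (d₃.app U a)) := rfl
  rw [h1, hs]
  exact hdf U a

/-- The morphism defined by `s`. -/
theorem exists_hom (hi : SqZ i) (hφ : IsConormalDiff i d₁ φ) [Mono φ]
    (hc : IsDiffCompat i d₁ d₂ c) {hw : φ ≫ c = 0} (hex : (ShortComplex.mk φ c hw).Exact)
    (hdf : IsDiffCompat f d₃ d₂ df) (hs : s ≫ c = df) :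
    ∃ g : C ⟶ X, i ≫ g = f ∧
      ∀ (U : X.Opens) (a : Γ(X, U)) (V : D.Opens) (e : V ≤ i ⁻¹ᵁ (g ⁻¹ᵁ U)) (e' : V ≤ f ⁻¹ᵁ U),
        pS i Ω₁ (g ⁻¹ᵁ U) V e (d₁.app _ (g.app U a)) =
          s.app V (pS f Ω₃ U V e' (d₃.app U a)) := by
  choose ρ hρ₁ hρ₂ using exists_rho (s := s) hi hφ hc hex hdf hs
  have huniq : ∀ (U : X.Opens) (b b' : Γ(C, Wo i f U)),
      i.appLE (Wo i f U) (f ⁻¹ᵁ U) (le₁ i f U) b = i.appLE (Wo i f U) (f ⁻¹ᵁ U) (le₁ i f U) b' →
      pS i Ω₁ (Wo i f U) (f ⁻¹ᵁ U) (le₁ i f U) (d₁.app _ b) =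
        pS i Ω₁ (Wo i f U) (f ⁻¹ᵁ U) (le₁ i f U) (d₁.app _ b') → b = b' :=
    fun U b b' h1 h2 => eq_of i hi hφ _ _ _ (le₂ i f U) b b' h1 h2
  let R : ∀ U : X.Opens, Γ(X, U) →+* Γ(C, Wo i f U) := fun U =>
    { toFun := ρ U
      map_one' := by
        apply huniq
        · rw [hρ₁, map_one, map_one]
        · rw [hρ₂, der_one, der_one, map_zero, map_zero, map_zero]
      map_zero' := by
        apply huniq
        · rw [hρ₁, map_zero, map_zero]
        · rw [hρ₂, map_zero, map_zero, map_zero, map_zero, map_zero]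
      map_add' := fun a b => by
        apply huniq
        · rw [hρ₁, map_add, map_add, hρ₁, hρ₁]
        · rw [hρ₂, map_add, map_add, map_add, map_add, map_add, hρ₂, hρ₂]
      map_mul' := fun a b => by
        apply huniq
        · rw [hρ₁, map_mul, map_mul, hρ₁, hρ₁]
        · rw [hρ₂, app_mul, app_mul, map_add, map_add, map_add, pS_smul, pS_smul, hρ₁, hρ₁,
            hρ₂, hρ₂, pullSect_smul, pullSect_smul]
          have e1 : ∀ (r : Γ(D, f ⁻¹ᵁ U)) (m : Γ((Scheme.Modules.pullback f).obj Ω₃, f ⁻¹ᵁ U)),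
              s.app (f ⁻¹ᵁ U) (r • m) = r • s.app (f ⁻¹ᵁ U) m := fun r m =>
            Scheme.Modules.Hom.app_smul s r m
          rw [e1, e1] }
  have hnat : ∀ {U V : X.Opens} (h : V ≤ U) (a : Γ(X, U)),
      R V (X.presheaf.map (homOfLE h).op a) =
        C.presheaf.map (homOfLE (Wo_mono i f h)).op (R U a) := by
    intro U V h a
    apply huniq
    · refine (hρ₁ V _).trans ?_
      rw [appLE_map_apply, ← map_appLE_apply i (Wo i f U) (f ⁻¹ᵁ U) (f ⁻¹ᵁ V) (le₁ i f U)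
        (f.preimage_mono h)]
      refine Eq.trans ?_ (congrArg (D.presheaf.map (homOfLE (f.preimage_mono h)).op)
        (hρ₁ U a).symm)
      exact congr($(f.naturality (homOfLE h).op) a)
    · refine (hρ₂ V _).trans ?_
      rw [app_map, app_map, pS_map, ← map_pS i Ω₁ (Wo i f U) (f ⁻¹ᵁ U) (f ⁻¹ᵁ V) (le₁ i f U)
        (f.preimage_mono h)]
      refine Eq.trans ?_ (congrArg (((Scheme.Modules.pullback i).obj Ω₁).presheaf.map
        (homOfLE (f.preimage_mono h)).op) (hρ₂ U a).symm)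
      rw [← pS_self f Ω₃ V le_rfl, pS_map, ← pS_self f Ω₃ U le_rfl]
      exact (app_pS_gen s U (f ⁻¹ᵁ U) (f ⁻¹ᵁ V) le_rfl (f.preimage_mono h) _).symm
  let base : C.toPresheafedSpace.carrier ⟶ X.toPresheafedSpace.carrier :=
    TopCat.ofHom ⟨fun x => f (homeo i x), f.continuous.comp (continuous_homeo i)⟩
  let cc : X.presheaf ⟶ (TopCat.Presheaf.pushforward _ base).obj C.presheaf :=
    { app := fun U => CommRingCat.ofHom (R U.unop)
      naturality := fun U V j => by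
        ext a
        have h1 : j = (homOfLE (leOfHom j.unop)).op := Subsingleton.elim _ _
        change R V.unop (X.presheaf.map j a) = _
        rw [h1]
        exact hnat (leOfHom j.unop) a }
  let psh : C.toPresheafedSpace ⟶ X.toPresheafedSpace := { base := base, c := cc }
  have hloc : ∀ x : C, IsLocalHom (PresheafedSpace.Hom.stalkMap psh x).hom := by
    intro x
    refine ⟨fun a ha => ?_⟩
    obtain ⟨U, hU, a, rfl⟩ := X.presheaf.exists_germ_eq a
    have h1 : (PresheafedSpace.Hom.stalkMap psh x).hom (X.presheaf.germ U _ hU a) =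
        C.presheaf.germ (Wo i f U) x hU (R U a) :=
      PresheafedSpace.stalkMap_germ_apply psh U x hU a
    rw [h1] at ha
    obtain ⟨d, rfl⟩ := i.surjective x
    have hd : d ∈ f ⁻¹ᵁ U := le₂ i f U hU
    have h2 : IsUnit (D.presheaf.germ (f ⁻¹ᵁ U) d hd (f.app U a)) := by
      have h3 : (i.stalkMap d).hom (C.presheaf.germ (Wo i f U) (i d) hU (R U a)) =
          D.presheaf.germ (i ⁻¹ᵁ (Wo i f U)) d hU (i.app _ (R U a)) :=
        Scheme.Hom.germ_stalkMap_apply i (Wo i f U) d hU (R U a)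
      have h4 : D.presheaf.germ (f ⁻¹ᵁ U) d hd (f.app U a) =
          D.presheaf.germ (i ⁻¹ᵁ (Wo i f U)) d hU (i.app _ (R U a)) := by
        rw [← hρ₁ U a, Scheme.Hom.appLE]
        exact TopCat.Presheaf.germ_res_apply D.presheaf (homOfLE (le₁ i f U)) d hd _
      rw [h4, ← h3]
      exact ha.map _
    have h5 : (f.stalkMap d).hom (X.presheaf.germ U (f d) hd a) =
        D.presheaf.germ (f ⁻¹ᵁ U) d hd (f.app U a) :=
      Scheme.Hom.germ_stalkMap_apply f U d hd a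
    rw [← h5] at h2
    have h6 := (isUnit_map_iff (f.stalkMap d).hom _).1 h2
    have h7 : base (i d) = f d := by
      change f (homeo i (i d)) = f d
      rw [apply_homeo]
    have h8 : ∀ (y z : X) (hy : y ∈ U) (hz : z ∈ U) (_ : y = z),
        IsUnit (X.presheaf.germ U y hy a) → IsUnit (X.presheaf.germ U z hz a) := by
      rintro y z hy hz rfl h
      exact h
    exact h8 _ _ _ _ h7.symm h6
  let g : C ⟶ X := ⟨⟨psh, hloc⟩⟩
  have hg_app : ∀ (U : X.Opens) (a : Γ(X, U)), g.app U a = R U a := fun _ _ => rfl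
  have hg_pre : ∀ U : X.Opens, g ⁻¹ᵁ U = Wo i f U := fun _ => rfl
  refine ⟨g, ?_, ?_⟩
  · have hb : (i ≫ g).base = f.base := by
      ext d
      change f (homeo i (i d)) = f d
      rw [apply_homeo]
    refine Scheme.Hom.ext hb fun U => ?_
    ext a
    exact hρ₁ U a
  · intro U a V e e'
    have h1 := congrArg (((Scheme.Modules.pullback i).obj Ω₁).presheaf.map
      (homOfLE e').op) (hρ₂ U a)
    rw [map_pS] at h1
    refine h1.trans ?_
    rw [← pS_self f Ω₃ U le_rfl]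
    exact app_pS_gen s U (f ⁻¹ᵁ U) V le_rfl e' _

end Exists

end K953.RibHom
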