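import Groth.Agent.MultCurve.K953.Conormal
import Groth.Agent.OmegaSh.K583.Retract

/-!
# Functions on a square-zero thickening as pairs

`i : D ⟶ C` a surjective closed immersion with square-zero ideal, `d₁ : O_C → Ω₁` a derivation,
`0 → conormal i → i^* Ω₁ → Ω₂` exact (maps compatible with `d₁`, `d₂`).
* `eq_of`: a function `b` on `C` is determined by `i♯ b` and `i^*(d₁ b)`;
* `exists_of`: every compatible pair `(a, ω)` (`c ω = d₂ a`) comes from a function.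
-/

set_option autoImplicit false

universe u

open CategoryTheory CategoryTheory.Limits AlgebraicGeometry Opposite TopologicalSpace

namespace K953.RibSec

open Groth.Agent.Sga67.Sec OmegaSh
open Groth.Agent.Dual.H366.ConSec
open Groth.Agent.UnramB.FirstOrderNbhd (SqZ)
open K584.PullCon K583.Retract K583.ConSect K583.DerAffine

variable {D C : Scheme.{u}} (i : D ⟶ C) [IsClosedImmersion i]

omit [IsClosedImmersion i] in
theorem conormalSect_eq_cS (W : C.Opens) (t : Γ(ClSub.idealMod i.ker, W)) :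
    conormalSect i W t = cS i W t := pullSect_eq_secS i _ W t

theorem conormalSect_injective (hi : SqZ i) (W : C.Opens) :
    Function.Injective (conormalSect i W) := by
  intro s t hst
  refine Groth.Agent.Sga67.Sec.eq_of_locally (ClSub.idealMod i.ker) (s := s) (t := t) fun x hx => ?_
  obtain ⟨_, ⟨V, hV, rfl⟩, hxV, hVW⟩ :=
    C.isBasis_affineOpens.exists_subset_of_mem_open hx W.2
  have hVW : V ≤ W := hVW
  refine ⟨V, hVW, hxV, cS_injective i hi hV ?_⟩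
  have h1 : ∀ r : Sec (ClSub.idealMod i.ker) W, cS i V (res _ hVW r) =
      res _ (i.preimage_mono hVW) (cS i W r) := fun r => secS_res i _ hVW r
  rw [h1, h1, ← conormalSect_eq_cS, ← conormalSect_eq_cS, hst]

theorem cls_injective (hi : SqZ i) (W : C.Opens) (V : D.Opens) (e : V ≤ i ⁻¹ᵁ W)
    (e' : i ⁻¹ᵁ W ≤ V) : Function.Injective (cls i W V e) := by
  obtain rfl : V = i ⁻¹ᵁ W := le_antisymm e e'
  intro s t hst
  rw [cls_self, cls_self] at hst
  exact conormalSect_injective i hi W hst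

variable {S : Scheme.{u}} {pC : C ⟶ S} {Ω₁ : C.Modules} {d₁ : Der pC Ω₁}
  {φ : Omega.conormal i ⟶ (Scheme.Modules.pullback i).obj Ω₁}

theorem eq_of (hi : SqZ i) (hφ : IsConormalDiff i d₁ φ) [Mono φ] (W : C.Opens) (V : D.Opens)
    (e : V ≤ i ⁻¹ᵁ W) (e' : i ⁻¹ᵁ W ≤ V) (b b' : Γ(C, W))
    (h1 : i.appLE W V e b = i.appLE W V e b')
    (h2 : pS i Ω₁ W V e (d₁.app W b) = pS i Ω₁ W V e (d₁.app W b')) : b = b' := by
  obtain rfl : V = i ⁻¹ᵁ W := le_antisymm e e'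
  rw [← sub_eq_zero] at h1 h2 ⊢
  have h3 : i.app W (b - b') = 0 := by
    rw [map_sub, Scheme.Hom.app_eq_appLE]
    exact h1
  have h4 : φ.app (i ⁻¹ᵁ W) (cls i W _ e (idLift i W (b - b') h3)) = 0 := by
    rw [app_cls _ hφ, idealSect_idLift, map_sub, map_sub]
    exact h2
  have h5 : cls i W _ e (idLift i W (b - b') h3) = 0 :=
    injective_of_mono φ (i ⁻¹ᵁ W) (h4.trans (map_zero (appS φ (i ⁻¹ᵁ W))).symm)
  have h6 : idLift i W (b - b') h3 = 0 :=
    cls_injective i hi W _ e le_rfl (h5.trans (map_zero _).symm)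
  rw [← idealSect_idLift i W (b - b') h3, h6, map_zero]

variable {S' : Scheme.{u}} {pD : D ⟶ S'} {Ω₂ : D.Modules} {d₂ : Der pD Ω₂}
  {c : (Scheme.Modules.pullback i).obj Ω₁ ⟶ Ω₂}

omit [IsClosedImmersion i] in
theorem app_pS' (hc : IsDiffCompat i d₁ d₂ c) (W : C.Opens) (V : D.Opens) (e : V ≤ i ⁻¹ᵁ W)
    (s : Γ(C, W)) : c.app V (pS i Ω₁ W V e (d₁.app W s)) = d₂.app V (i.appLE W V e s) := by
  have h2 : i.appLE W V e s = D.presheaf.map (homOfLE e).op (i.app W s) := rfl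
  rw [pS_apply, h2, app_map, ← hc]
  exact congr($((Scheme.Modules.Hom.mapPresheaf c).naturality (homOfLE e).op)
    (pullSect i Ω₁ W (d₁.app W s)))

theorem exists_of_affine (hφ : IsConormalDiff i d₁ φ) [Mono φ] (hc : IsDiffCompat i d₁ d₂ c)
    {hw : φ ≫ c = 0} (hex : (ShortComplex.mk φ c hw).Exact) {W : C.Opens} (hW : IsAffineOpen W)
    (a : Γ(D, i ⁻¹ᵁ W)) (ω : Γ((Scheme.Modules.pullback i).obj Ω₁, i ⁻¹ᵁ W))
    (h : c.app (i ⁻¹ᵁ W) ω = d₂.app (i ⁻¹ᵁ W) a) :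
    ∃ b : Γ(C, W), i.appLE W _ le_rfl b = a ∧ pS i Ω₁ W _ le_rfl (d₁.app W b) = ω := by
  obtain ⟨b₀, hb₀⟩ := i.app_surjective W hW a
  have hb₀' : i.appLE W _ le_rfl b₀ = a := by rw [← hb₀, Scheme.Hom.app_eq_appLE]
  have h1 : c.app (i ⁻¹ᵁ W) (ω - pS i Ω₁ W _ le_rfl (d₁.app W b₀)) = 0 := by
    rw [map_sub, sub_eq_zero, h, ← hb₀']
    exact (app_pS' i hc W _ le_rfl b₀).symm
  have : Mono (ShortComplex.mk φ c hw).f := ‹Mono φ›
  obtain ⟨l, hl⟩ := exists_of_appS_eq_zero hex (U := i ⁻¹ᵁ W)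
    (ω - pS i Ω₁ W _ le_rfl (d₁.app W b₀)) h1
  obtain ⟨t, rfl⟩ := cS_surjective i hW l
  have hl' : φ.app (i ⁻¹ᵁ W) (cls i W _ le_rfl t) =
      ω - pS i Ω₁ W _ le_rfl (d₁.app W b₀) := by
    rw [cls_self, conormalSect_eq_cS]
    exact hl
  rw [app_cls _ hφ] at hl'
  refine ⟨b₀ + idealSect i.ker W t, ?_, ?_⟩
  · have h2 : i.appLE W _ le_rfl (idealSect i.ker W t) = 0 := by
      have := app_idealSect i W t
      rwa [Scheme.Hom.app_eq_appLE] at this
    rw [map_add, h2, add_zero, hb₀']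
  · rw [map_add, map_add, hl', add_sub_cancel]

omit [IsClosedImmersion i] in
theorem appLE_map_apply (W W' : C.Opens) (V : D.Opens) (h : W' ≤ W) (e : V ≤ i ⁻¹ᵁ W')
    (b : Γ(C, W)) : i.appLE W' V e (C.presheaf.map (homOfLE h).op b) =
      i.appLE W V (e.trans (i.preimage_mono h)) b := by
  rw [← ConcreteCategory.comp_apply, Scheme.Hom.map_appLE]

omit [IsClosedImmersion i] in
theorem map_appLE_apply (W : C.Opens) (V V' : D.Opens) (e : V ≤ i ⁻¹ᵁ W) (h : V' ≤ V)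
    (b : Γ(C, W)) : D.presheaf.map (homOfLE h).op (i.appLE W V e b) =
      i.appLE W V' (h.trans e) b := by
  rw [← ConcreteCategory.comp_apply, Scheme.Hom.appLE_map]

theorem exists_of (hi : SqZ i) (hφ : IsConormalDiff i d₁ φ) [Mono φ]
    (hc : IsDiffCompat i d₁ d₂ c)
    {hw : φ ≫ c = 0} (hex : (ShortComplex.mk φ c hw).Exact) (W : C.Opens) (V : D.Opens)
    (e : V ≤ i ⁻¹ᵁ W) (e' : i ⁻¹ᵁ W ≤ V)
    (a : Γ(D, V)) (ω : Γ((Scheme.Modules.pullback i).obj Ω₁, V))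
    (h : c.app V ω = d₂.app V a) :
    ∃ b : Γ(C, W), i.appLE W V e b = a ∧ pS i Ω₁ W V e (d₁.app W b) = ω := by
  obtain rfl : V = i ⁻¹ᵁ W := le_antisymm e e'
  -- the affine opens inside `W`
  let ι := {V : C.affineOpens // V.1 ≤ W}
  have key : ∀ V : ι, ∃ b : Γ(C, V.1.1), i.appLE V.1.1 _ le_rfl b =
        D.presheaf.map (homOfLE (i.preimage_mono V.2)).op a ∧
      pS i Ω₁ V.1.1 _ le_rfl (d₁.app V.1.1 b) =
        ((Scheme.Modules.pullback i).obj Ω₁).presheaf.map (homOfLE (i.preimage_mono V.2)).op ω := by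
    intro V
    refine exists_of_affine i hφ hc hex V.1.2 _ _ ?_
    rw [app_map, ← h]
    exact congr($((Scheme.Modules.Hom.mapPresheaf c).naturality
      (homOfLE (i.preimage_mono V.2)).op) ω)
  choose b hb1 hb2 using key
  have hcov : W ≤ iSup fun V : ι => V.1.1 := by
    intro x hx
    obtain ⟨_, ⟨V, hV, rfl⟩, hxV, hVW⟩ :=
      C.isBasis_affineOpens.exists_subset_of_mem_open hx W.2
    exact Opens.mem_iSup.mpr ⟨⟨⟨V, hV⟩, hVW⟩, hxV⟩
  have res1 : ∀ (V : ι) (V' : C.Opens) (h : V' ≤ V.1.1),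
      i.appLE V' _ le_rfl (C.presheaf.map (homOfLE h).op (b V)) =
        D.presheaf.map (homOfLE (i.preimage_mono (h.trans V.2))).op a := by
    intro V V' h
    rw [appLE_map_apply, ← map_appLE_apply i V.1.1 _ _ le_rfl (i.preimage_mono h), hb1,
      ← ConcreteCategory.comp_apply, ← Functor.map_comp]
    rfl
  have res2 : ∀ (V : ι) (V' : C.Opens) (h : V' ≤ V.1.1),
      pS i Ω₁ V' _ le_rfl (d₁.app V' (C.presheaf.map (homOfLE h).op (b V))) =
        ((Scheme.Modules.pullback i).obj Ω₁).presheaf.map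
          (homOfLE (i.preimage_mono (h.trans V.2))).op ω := by
    intro V V' h
    rw [app_map, pS_map, ← map_pS i Ω₁ V.1.1 _ _ le_rfl (i.preimage_mono h), hb2,
      ← ConcreteCategory.comp_apply, ← Functor.map_comp]
    rfl
  obtain ⟨g, hg, -⟩ := TopCat.Sheaf.existsUnique_gluing' C.sheaf (fun V : ι => V.1.1) W
    (fun V => homOfLE V.2) hcov b (by
      intro V V'
      refine eq_of i hi hφ _ _ le_rfl le_rfl _ _ ?_ ?_
      · exact (res1 V _ inf_le_left).trans (res1 V' _ inf_le_right).symm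
      · exact (res2 V _ inf_le_left).trans (res2 V' _ inf_le_right).symm)
  have hcovD : i ⁻¹ᵁ W ≤ iSup fun V : ι => i ⁻¹ᵁ V.1.1 := by
    intro x hx
    obtain ⟨V, hV⟩ := Opens.mem_iSup.mp (hcov hx)
    exact Opens.mem_iSup.mpr ⟨V, hV⟩
  refine ⟨g, ?_, ?_⟩
  · refine TopCat.Sheaf.eq_of_locally_eq' D.sheaf (fun V : ι => i ⁻¹ᵁ V.1.1) (i ⁻¹ᵁ W)
      (fun V => homOfLE (i.preimage_mono V.2)) hcovD _ _ fun V => ?_
    refine (map_appLE_apply i W _ _ le_rfl (i.preimage_mono V.2) g).trans ?_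
    rw [← appLE_map_apply i W V.1.1 _ V.2 le_rfl]
    refine Eq.trans ?_ (hb1 V)
    exact congrArg (i.appLE V.1.1 _ le_rfl) (hg V)
  · refine K583.DerAffine.eq_of_locally ((Scheme.Modules.pullback i).obj Ω₁) fun x hx => ?_
    obtain ⟨V, hV⟩ := Opens.mem_iSup.mp (hcovD hx)
    refine ⟨i ⁻¹ᵁ V.1.1, i.preimage_mono V.2, hV, ?_⟩
    refine (map_pS i Ω₁ W _ _ le_rfl (i.preimage_mono V.2) _).trans ?_
    rw [← pS_map i Ω₁ W V.1.1 _ V.2 le_rfl, ← app_map]
    refine Eq.trans ?_ (hb2 V)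
    exact congrArg (fun z => pS i Ω₁ V.1.1 _ le_rfl (d₁.app V.1.1 z)) (hg V)

end K953.RibSec
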