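import Groth.Agent.MultCurve.K953.AlgSec
import Groth.Agent.MultCurve.K953.RibSec
import Groth.Agent.MultCurve.K953.RibHom
import Groth.Agent.PerfA.QCohExt
import Groth.Agent.CohqB.QC3

/-!
# The algebra of compatible pairs attached to an extension of the differentials

`0 → L → E → Ω₂ → 0`, `d₂ : O_D → Ω₂` a derivation: the rings `{(a, ω) | v ω = d₂ a}`.
-/

set_option autoImplicit false

open AlgebraicGeometry CategoryTheory Limits TopologicalSpace Opposite
open Groth.Agent.FlatB.PushRing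

universe u

noncomputable section

namespace K953.ExtDat

open OmegaSh K953.AlgGlue K583.DerAffine Groth.Agent.Fdesc.LocGen

section Ring

variable {D S : Scheme.{u}} {pD : D ⟶ S} {E Ω₂ : D.Modules} (v : E ⟶ Ω₂) (d₂ : Der pD Ω₂)

/-- Compatible pairs. -/
@[ext] structure Rg (V : D.Opens) where
  /-- the function -/
  fst : Γ(D, V)
  /-- the section -/
  snd : Γ(E, V)
  prop : v.app V snd = d₂.app V fst

variable {v d₂}

namespace Rg

variable {V W U : D.Opens}

instance : Zero (Rg v d₂ V) := ⟨⟨0, 0, by rw [map_zero, map_zero]⟩⟩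
instance : One (Rg v d₂ V) := ⟨⟨1, 0, by rw [map_zero, K953.RibHom.der_one]⟩⟩
instance : Add (Rg v d₂ V) :=
  ⟨fun x y => ⟨x.fst + y.fst, x.snd + y.snd, by rw [map_add, map_add, x.prop, y.prop]⟩⟩
instance : Neg (Rg v d₂ V) := ⟨fun x => ⟨-x.fst, -x.snd, by rw [map_neg, map_neg, x.prop]⟩⟩
instance : Mul (Rg v d₂ V) :=
  ⟨fun x y => ⟨x.fst * y.fst, x.fst • y.snd + y.fst • x.snd, by
    rw [map_add, app_mul, Scheme.Modules.Hom.app_smul, Scheme.Modules.Hom.app_smul, x.prop, y.prop]⟩⟩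

@[simp] theorem fst_zero : (0 : Rg v d₂ V).fst = 0 := rfl
@[simp] theorem snd_zero : (0 : Rg v d₂ V).snd = 0 := rfl
@[simp] theorem fst_one : (1 : Rg v d₂ V).fst = 1 := rfl
@[simp] theorem snd_one : (1 : Rg v d₂ V).snd = 0 := rfl
@[simp] theorem fst_add (x y : Rg v d₂ V) : (x + y).fst = x.fst + y.fst := rfl
@[simp] theorem snd_add (x y : Rg v d₂ V) : (x + y).snd = x.snd + y.snd := rfl
@[simp] theorem fst_neg (x : Rg v d₂ V) : (-x).fst = -x.fst := rfl
@[simp] theorem snd_neg (x : Rg v d₂ V) : (-x).snd = -x.snd := rfl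
@[simp] theorem fst_mul (x y : Rg v d₂ V) : (x * y).fst = x.fst * y.fst := rfl
@[simp] theorem snd_mul (x y : Rg v d₂ V) : (x * y).snd = x.fst • y.snd + y.fst • x.snd := rfl

instance : CommRing (Rg v d₂ V) where
  add_assoc x y z := Rg.ext (add_assoc _ _ _) (add_assoc _ _ _)
  zero_add x := Rg.ext (zero_add _) (zero_add _)
  add_zero x := Rg.ext (add_zero _) (add_zero _)
  add_comm x y := Rg.ext (add_comm _ _) (add_comm _ _)
  neg_add_cancel x := Rg.ext (neg_add_cancel _) (neg_add_cancel _)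
  mul_assoc x y z := by
    ext1
    · exact mul_assoc _ _ _
    · simp only [snd_mul, fst_mul, smul_add, mul_smul, add_assoc, smul_comm z.fst]
  one_mul x := by
    ext1
    · exact one_mul _
    · simp
  mul_one x := by
    ext1
    · exact mul_one _
    · simp
  left_distrib x y z := by
    ext1
    · exact left_distrib _ _ _
    · simp only [snd_mul, fst_add, snd_add, smul_add, add_smul]
      abel
  right_distrib x y z := by
    ext1
    · exact right_distrib _ _ _
    · simp only [snd_mul, fst_add, snd_add, smul_add, add_smul]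
      abel
  zero_mul x := by
    ext1
    · exact zero_mul _
    · simp
  mul_zero x := by
    ext1
    · exact mul_zero _
    · simp
  mul_comm x y := by
    ext1
    · exact mul_comm _ _
    · simp only [snd_mul]
      exact add_comm _ _
  nsmul := nsmulRec
  zsmul := zsmulRec

@[simp] theorem fst_sub (x y : Rg v d₂ V) : (x - y).fst = x.fst - y.fst := by
  rw [sub_eq_add_neg, sub_eq_add_neg]; rfl

@[simp] theorem snd_sub (x y : Rg v d₂ V) : (x - y).snd = x.snd - y.snd := by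
  rw [sub_eq_add_neg, sub_eq_add_neg]; rfl

/-- The projection to functions -/
def p (V : D.Opens) : Rg v d₂ V →+* Γ(D, V) where
  toFun := Rg.fst
  map_zero' := rfl
  map_one' := rfl
  map_add' _ _ := rfl
  map_mul' _ _ := rfl

@[simp] theorem p_apply (x : Rg v d₂ V) : p V x = x.fst := rfl

/-- The projection to sections -/
def q (V : D.Opens) : Rg v d₂ V →+ Γ(E, V) where
  toFun := Rg.snd
  map_zero' := rfl
  map_add' _ _ := rfl

@[simp] theorem q_apply (x : Rg v d₂ V) : q V x = x.snd := rfl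

theorem q_mul (x y : Rg v d₂ V) : q V (x * y) = p V x • q V y + p V y • q V x := rfl

/-- Restriction -/
noncomputable def r (h : V ≤ W) : Rg v d₂ W →+* Rg v d₂ V where
  toFun x := ⟨ores h x.fst, res E h x.snd, by
    rw [app_res, x.prop]
    exact (app_map d₂ h x.fst).symm⟩
  map_zero' := Rg.ext (map_zero _) (map_zero _)
  map_one' := Rg.ext (map_one _) (map_zero _)
  map_add' x y := Rg.ext (map_add _ _ _) (map_add _ _ _)
  map_mul' x y := Rg.ext (map_mul _ _ _) (by
    change res E h (x.fst • y.snd + y.fst • x.snd) = _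
    rw [map_add, res_smul, res_smul]
    rfl)

@[simp] theorem fst_r (h : V ≤ W) (x : Rg v d₂ W) : (r h x).fst = ores h x.fst := rfl
@[simp] theorem snd_r (h : V ≤ W) (x : Rg v d₂ W) : (r h x).snd = res E h x.snd := rfl

theorem r_self (x : Rg v d₂ V) : r (le_refl V) x = x := Rg.ext (by simp) (by simp)

theorem r_r (h : U ≤ V) (h' : V ≤ W) (x : Rg v d₂ W) : r h (r h' x) = r (h.trans h') x :=
  Rg.ext (by simp) (by simp)

theorem mul_eq_zero {x y : Rg v d₂ V} (hx : x.fst = 0) (hy : y.fst = 0) : x * y = 0 := by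
  ext1
  · simp [hx]
  · simp [hx, hy]

end Rg

end Ring

section Ker

variable {D S : Scheme.{u}} {pD : D ⟶ S} {L E Ω₂ : D.Modules} {u : L ⟶ E} {v : E ⟶ Ω₂}
  {w : u ≫ v = 0} {d₂ : Der pD Ω₂}

/-- The elements of the kernel -/
def kr (w : u ≫ v = 0) (d₂ : Der pD Ω₂) {V : D.Opens} (l : Γ(L, V)) : Rg v d₂ V :=
  ⟨0, u.app V l, by
    rw [map_zero]
    exact (congr($(congrArg (fun f => Scheme.Modules.Hom.app f V) w) l) :
      (u ≫ v).app V l = (0 : L ⟶ Ω₂).app V l)⟩

@[simp] theorem kr_fst {V : D.Opens} (l : Γ(L, V)) : (kr w d₂ l).fst = 0 := rfl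
@[simp] theorem kr_snd {V : D.Opens} (l : Γ(L, V)) : (kr w d₂ l).snd = u.app V l := rfl

theorem kr_mul {V : D.Opens} (l : Γ(L, V)) (x : Rg v d₂ V) :
    kr w d₂ l * x = kr w d₂ (x.fst • l) := by
  ext1
  · simp
  · simp only [Rg.snd_mul, kr_fst, kr_snd, zero_smul, zero_add]
    exact (Scheme.Modules.Hom.app_smul _ _ _).symm

theorem kr_mul_pow {V : D.Opens} (l : Γ(L, V)) (x : Rg v d₂ V) (n : ℕ) :
    kr w d₂ l * x ^ n = kr w d₂ (x.fst ^ n • l) := by
  rw [kr_mul]
  congr 2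
  exact map_pow (Rg.p V) x n

theorem r_kr {V W : D.Opens} (h : V ≤ W) (l : Γ(L, W)) :
    Rg.r h (kr w d₂ l) = kr w d₂ (res L h l) := by
  ext1
  · simp
  · simp only [Rg.snd_r, kr_snd]
    exact (app_res u h l).symm

theorem kr_add {V : D.Opens} (l l' : Γ(L, V)) : kr w d₂ (l + l') = kr w d₂ l + kr w d₂ l' := by
  ext1
  · simp
  · simp

theorem kr_zero {V : D.Opens} : kr w d₂ (0 : Γ(L, V)) = 0 := by
  ext1
  · simp
  · simp

variable (hS : (ShortComplex.mk u v w).ShortExact)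

include hS in
theorem kr_injective {V : D.Opens} {l : Γ(L, V)} (h : kr w d₂ l = 0) : l = 0 := by
  have : Mono u := hS.mono_f
  have h1 : u.app V l = 0 := congrArg Rg.snd h
  exact Groth.Agent.Sga67.Sec.injective_of_mono u V (h1.trans (map_zero (Groth.Agent.Sga67.Sec.appS u V)).symm)

include hS in
theorem exists_kr {V : D.Opens} {x : Rg v d₂ V} (h : x.fst = 0) : ∃ l : Γ(L, V), x = kr w d₂ l := by
  have : Mono (ShortComplex.mk u v w).f := hS.mono_f
  have h1 : v.app V x.snd = 0 := by rw [x.prop, h, map_zero]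
  obtain ⟨l, hl⟩ := Groth.Agent.Sga67.Sec.exists_of_appS_eq_zero hS.exact (U := V) x.snd h1
  refine ⟨l, ?_⟩
  ext1
  · exact h
  · exact hl.symm

include hS in
theorem p_surjective (hL : Coh.IsQCoh L) {V : D.Opens} (hV : IsAffineOpen V) :
    Function.Surjective (Rg.p V : Rg v d₂ V →+* Γ(D, V)) := by
  intro a
  obtain ⟨ω, hω⟩ := Groth.Agent.PerfA.QCohExt.app_surjective hS hL V hV (d₂.app V a)
  exact ⟨⟨a, ω, hω⟩, rfl⟩

include hS in
theorem isLocAway_r (hL : Coh.IsQCoh L) {V W : D.Opens} (hV : IsAffineOpen V) (hW : IsAffineOpen W)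
    (h : V ≤ W) (c : Rg v d₂ W) (hc : V = D.basicOpen c.fst) : IsLocAway (Rg.r h) c := by
  subst hc
  have hloc := Groth.Agent.FlatB.PushPair.isLocAway_res D hW c.fst (D.basicOpen_le _) rfl
  have : SheafOfModules.IsQuasicoherent (R := D.ringCatSheaf) L := hL
  have hLoc := Groth.Agent.CohqB.QC2.loc_of_isQuasicoherent L hW
  have hpow : ∀ {V : D.Opens} (x : Rg v d₂ V) (n : ℕ), (x ^ n).fst = x.fst ^ n := fun {V} x n =>
    map_pow (Rg.p V) x n
  refine ⟨?_, ?_, ?_⟩
  · obtain ⟨b, hb⟩ := hloc.unit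
    obtain ⟨y, hy⟩ := p_surjective (d₂ := d₂) hS hL hV (↑b⁻¹ : Γ(D, D.basicOpen c.fst))
    have h1 : (Rg.r h c * y - 1).fst = 0 := by
      rw [Rg.fst_sub, Rg.fst_mul, sub_eq_zero]
      have e1 : (Rg.r h c).fst = ↑b := hb.symm
      have e2 : y.fst = ↑b⁻¹ := hy
      rw [e1, e2]
      exact b.mul_inv
    have h2 : (Rg.r h c * y - 1) * (Rg.r h c * y - 1) = 0 := Rg.mul_eq_zero h1 h1
    refine IsUnit.of_mul_eq_one (y * (1 - (Rg.r h c * y - 1))) ?_
    linear_combination -h2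
  · intro z
    obtain ⟨n, a, hn⟩ := hloc.surj z.fst
    obtain ⟨x, hx⟩ := p_surjective (d₂ := d₂) hS hL hW a
    have h1 : (z * Rg.r h c ^ n - Rg.r h x).fst = 0 := by
      rw [Rg.fst_sub, Rg.fst_mul, hpow, sub_eq_zero]
      have e2 : x.fst = a := hx
      rw [Rg.fst_r, Rg.fst_r, e2]
      exact hn
    obtain ⟨l, hl⟩ := exists_kr hS h1
    obtain ⟨m, l', hl'⟩ := hLoc.exists_lift c.fst l
    refine ⟨n + m, x * c ^ m + kr w d₂ l', ?_⟩
    have h3 : z * Rg.r h c ^ n = Rg.r h x + kr w d₂ l := by rw [← hl]; ring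
    rw [pow_add, ← mul_assoc, h3, map_add, map_mul, map_pow, r_kr, add_mul, kr_mul_pow]
    congr 2
    exact hl'.symm
  · intro x y hxy
    have h1 : ∃ n : ℕ, (c ^ n * (x - y)).fst = 0 := by
      obtain ⟨n, hn⟩ := hloc.eq x.fst y.fst (congrArg Rg.fst hxy)
      refine ⟨n, ?_⟩
      rw [Rg.fst_mul, hpow, Rg.fst_sub, mul_sub, hn, sub_self]
    obtain ⟨n, hn⟩ := h1
    obtain ⟨l, hl⟩ := exists_kr hS hn
    have h2 : res L h l = 0 := by
      apply kr_injective (d₂ := d₂) hS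
      rw [← r_kr, ← hl, map_mul, map_sub, hxy, sub_self, mul_zero]
    obtain ⟨m, hm⟩ := hLoc.eq_zero c.fst l h2
    refine ⟨m + n, ?_⟩
    rw [← sub_eq_zero, ← mul_sub, pow_add, mul_assoc, hl, mul_comm, kr_mul_pow, hm, kr_zero]

/-- The algebra datum. -/
noncomputable def dat (d₂ : Der pD Ω₂) (hL : Coh.IsQCoh L) : AlgDat D where
  R V := Rg v d₂ V.1
  ring _ := inferInstance
  r {V W} h := Rg.r (show V.1 ≤ W.1 from h)
  r_self _ x := Rg.r_self x
  r_r h h' x := Rg.r_r _ _ x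
  p V := Rg.p V.1
  p_r _ _ := rfl
  surj V := p_surjective hS hL V.2
  nil V x hx := ⟨2, by rw [pow_two]; exact Rg.mul_eq_zero hx hx⟩
  loc {V W} h c hc := isLocAway_r hS hL V.2 W.2 _ c hc

end Ker

end K953.ExtDat

end
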