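import Groth.Prelude.Def_MultCurve
import Groth.Agent.MultCurve.K953.Basic
import Groth.Agent.Grpsch.CubeLift

/-!
# Generators of a line bundle trivial on a member of the canonical filtration

`i : C ⟶ X` closed immersion with ideal `I`, `I ^ n = 0`, `n ≥ 2`; `D` a line bundle on `X` whose restriction to the
subscheme of `I ^ (n - 1)` is trivial.
* `exists_gens`: two affine opens `U`, `V` with affine intersection `W`; `D` has generators over `U` and `V`, which differ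
  over `W` by the factor `1 + s`, `s ∈ I ^ (n - 1)`; in particular `s I = 0` over `W`.
-/

set_option autoImplicit false

universe u

open CategoryTheory CategoryTheory.Limits AlgebraicGeometry Opposite TopologicalSpace
open Groth.Agent Groth.Agent.Fdesc.LocGen Groth.Agent.Grpsch

namespace K953.ExtGen

variable {C X : Scheme.{u}} (i : C ⟶ X)

theorem ker_memberι (m : ℕ) : (MultCurve.memberι i m).ker = i.ker ^ m :=
  Scheme.IdealSheafData.ker_subschemeι _

theorem memberι_surjective (n : ℕ) (hn : 2 ≤ n) (h : i.ker ^ n = ⊥) :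
    Surjective (MultCurve.memberι i (n - 1)) := by
  refine K953.MultBasic.surjective_of_ker_pow _ n ?_
  rw [ker_memberι, ← pow_mul]
  refine le_bot_iff.1 (h ▸ ?_)
  refine MultCurve.ker_pow_anti i ?_
  calc n ≤ n - 1 + (n - 1) := by omega
    _ = (n - 1) * 2 := by ring
    _ ≤ (n - 1) * n := Nat.mul_le_mul le_rfl hn

theorem exists_gens (n : ℕ) (hn : 2 ≤ n) (h : i.ker ^ n = ⊥) (D : X.Modules) (hD : PicF.IsInvertible D)
    (hDtriv : Nonempty ((Scheme.Modules.pullback (MultCurve.memberι i (n - 1))).obj D ≅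
      Coh.structureModule (MultCurve.member i (n - 1))))
    {U V : X.Opens} (hU : IsAffineOpen U) (hV : IsAffineOpen V) (hW : IsAffineOpen (U ⊓ V)) :
    ∃ (tU : Γ(D, U)) (tV : Γ(D, V)) (s : Γ(X, U ⊓ V)), IsGen tU ∧ IsGen tV ∧
      res D inf_le_right tV = (1 + s) • res D inf_le_left tU ∧
      ∀ a ∈ i.ker.ideal ⟨U ⊓ V, hW⟩, s * a = 0 := by
  obtain ⟨e⟩ := hDtriv
  have hs := memberι_surjective i n hn h
  set ι := MultCurve.memberι i (n - 1) with hι
  let m : Γ((Scheme.Modules.pullback ι).obj D, ⊤) := e.inv.app ⊤ (one ⊤)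
  have hm : IsGen m := (isGen_one ⊤).app e.inv
  obtain ⟨tU, htU, gU⟩ := CubeLift.exists_lift ι hD hU (hm.res (le_top : ι ⁻¹ᵁ U ≤ ⊤))
  obtain ⟨tV, htV, gV⟩ := CubeLift.exists_lift ι hD hV (hm.res (le_top : ι ⁻¹ᵁ V ≤ ⊤))
  obtain ⟨a, ha⟩ := (gU.res (inf_le_left : U ⊓ V ≤ U)).exists_eq (res D (inf_le_right : U ⊓ V ≤ V) tV)
  have h1 : ι.app (U ⊓ V) a = 1 := by
    refine ((gU.res (inf_le_left : U ⊓ V ≤ U)).pullSec ι).ext ?_
    rw [← pullSec_smul, ← ha, one_smul, ← res_pullSec, ← res_pullSec, htU, htV, res_res, res_res]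
  have h2 : a - 1 ∈ (i.ker ^ (n - 1)).ideal ⟨U ⊓ V, hW⟩ := by
    rw [← ker_memberι, ι.ker_apply ⟨U ⊓ V, hW⟩, RingHom.mem_ker, map_sub, map_one, sub_eq_zero]
    exact h1
  refine ⟨tU, tV, a - 1, gU, gV, by rw [ha]; congr 1; ring, fun b hb => ?_⟩
  have h3 : (a - 1) * b ∈ (i.ker ^ n).ideal ⟨U ⊓ V, hW⟩ := by
    have : (i.ker ^ n).ideal ⟨U ⊓ V, hW⟩ = (i.ker.ideal ⟨U ⊓ V, hW⟩) ^ (n - 1) * i.ker.ideal ⟨U ⊓ V, hW⟩ := by
      rw [← pow_succ, Nat.sub_add_cancel (by omega)]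
      rfl
    rw [this]
    exact Ideal.mul_mem_mul h2 hb
  rw [h] at h3
  exact h3

end K953.ExtGen
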