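import Groth.Agent.MultCurve.K953.ExtDat
import Groth.Agent.MultCurve.K953.AlgBase

/-!
# The thickening attached to an extension of the differentials
-/

set_option autoImplicit false

open AlgebraicGeometry CategoryTheory Limits TopologicalSpace Opposite

universe u

noncomputable section

namespace K953.ExtGlue

/-- Finite type along a surjection with finitely generated square-zero kernel. -/
theorem finiteType_of_sqZero {k R B : Type*} [CommRing k] [CommRing R] [CommRing B] (s : k →+* R)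
    (p : R →+* B) (hp : Function.Surjective p) (hfin : (p.comp s).FiniteType)
    (T : Finset R) (hT : ∀ x, p x = 0 → x ∈ Submodule.span R (T : Set R)) (hT' : ∀ t ∈ T, p t = 0)
    (hsq : ∀ x y, p x = 0 → p y = 0 → x * y = 0) : s.FiniteType := by
  algebraize [s, p.comp s]
  let P : R →ₐ[k] B := { p with commutes' := fun _ => rfl }
  obtain ⟨G, hG⟩ := (Algebra.FiniteType.out : (⊤ : Subalgebra k B).FG)
  choose g hg using hp
  classical
  let G' : Finset R := G.image g
  have hG' : (Algebra.adjoin k (G' : Set R)).map P = ⊤ := by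
    rw [AlgHom.map_adjoin, ← hG]
    congr 1
    have e : ((G' : Finset R) : Set R) = g '' (G : Set B) := by simp [G']
    rw [e, ← Set.image_comp]
    have : (P ∘ g) = id := funext fun b => hg b
    rw [this, Set.image_id]
  let A' := Algebra.adjoin k ((G' ∪ T : Finset R) : Set R)
  have h1 : Algebra.adjoin k (G' : Set R) ≤ A' := Algebra.adjoin_mono (by simp)
  have h2 : ∀ a : R, ∃ a' ∈ A', p (a - a') = 0 := by
    intro a
    have : P a ∈ (Algebra.adjoin k (G' : Set R)).map P := by rw [hG']; trivial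
    obtain ⟨a', ha', h⟩ := this
    refine ⟨a', h1 ha', ?_⟩
    have h' : p a' = p a := h
    rw [map_sub, h', sub_self]
  have h3 : ∀ x ∈ Submodule.span R (T : Set R), x ∈ A' ∧ p x = 0 := by
    intro x hx
    induction hx using Submodule.span_induction with
    | mem x hx => exact ⟨Algebra.subset_adjoin (by simp; exact Or.inr hx), hT' x hx⟩
    | zero => exact ⟨A'.zero_mem, map_zero _⟩
    | add x y _ _ hx hy => exact ⟨A'.add_mem hx.1 hy.1, by rw [map_add, hx.2, hy.2, add_zero]⟩
    | smul r x _ hx =>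
      obtain ⟨r', hr', h⟩ := h2 r
      refine ⟨?_, by rw [smul_eq_mul, map_mul, hx.2, mul_zero]⟩
      have : r • x = r' * x := by
        have := hsq (r - r') x h hx.2
        rw [sub_mul, sub_eq_zero] at this
        exact this
      rw [this]
      exact A'.mul_mem hr' hx.1
  refine ⟨⟨G' ∪ T, ?_⟩⟩
  rw [eq_top_iff]
  intro a _
  obtain ⟨a', ha', h⟩ := h2 a
  have h4 := (h3 _ (hT _ h)).1
  have := A'.add_mem h4 ha'
  rwa [sub_add_cancel] at this

open OmegaSh K953.AlgGlue K953.AlgSec K953.AlgBase K953.ExtDat K583.DerAffine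
open Groth.Agent.Fdesc.LocGen

variable {k : Type u} [Field k] {D : Scheme.{u}} {pD : D ⟶ Spec (CommRingCat.of k)}
  {L E Ω₂ : D.Modules} {u : L ⟶ E} {v : E ⟶ Ω₂}
  {w : u ≫ v = 0} (d₂ : Der pD Ω₂)

variable (v) in
/-- constants in the ring of pairs -/
def sk (V : D.Opens) : k →+* Rg v d₂ V where
  toFun c := ⟨sk₀ pD V c, 0, by
    rw [map_zero]
    exact (app_appLE d₂ V ⊤ le_top _).symm⟩
  map_zero' := Rg.ext (map_zero (sk₀ pD V).hom) rfl
  map_one' := Rg.ext (map_one (sk₀ pD V).hom) rfl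
  map_add' x y := Rg.ext (map_add (sk₀ pD V).hom x y) (add_zero _).symm
  map_mul' x y := Rg.ext (map_mul (sk₀ pD V).hom x y) (by simp)

theorem sk_finiteType (hS : (ShortComplex.mk u v w).ShortExact) (hL : Coh.IsQCoh L)
    [LocallyOfFiniteType pD] {V : D.Opens} (hV : IsAffineOpen V)
    (hfin : Module.Finite Γ(D, V) Γ(L, V)) : (sk v d₂ V).FiniteType := by
  obtain ⟨G, hG⟩ := hfin.fg_top
  classical
  refine finiteType_of_sqZero (sk v d₂ V) (Rg.p V) (p_surjective hS hL hV) ?_
    (G.image (kr w d₂)) ?_ ?_ ?_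
  · have h1 : (pD.appLE ⊤ V le_top).hom.FiniteType :=
      LocallyOfFiniteType.finiteType_appLE pD (isAffineOpen_top _) hV le_top
    have h2 : ((Scheme.ΓSpecIso (CommRingCat.of k)).inv).hom.FiniteType :=
      RingHom.FiniteType.of_surjective _
        (ConcreteCategory.bijective_of_isIso (Scheme.ΓSpecIso (CommRingCat.of k)).inv).2
    exact h1.comp h2
  · intro x hx
    obtain ⟨l, rfl⟩ := exists_kr hS (show x.fst = 0 from hx)
    have hl : l ∈ Submodule.span Γ(D, V) (G : Set Γ(L, V)) := by rw [hG]; trivial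
    clear hx
    induction hl using Submodule.span_induction with
    | mem x hx => exact Submodule.subset_span (by simpa using ⟨x, hx, rfl⟩)
    | zero => rw [kr_zero]; exact Submodule.zero_mem _
    | add x y _ _ hx hy => rw [kr_add]; exact Submodule.add_mem _ hx hy
    | smul r x _ hx =>
      obtain ⟨r', rfl⟩ := p_surjective (d₂ := d₂) hS hL hV r
      have : kr w d₂ (Rg.p V r' • x) = r' • kr w d₂ x := by
        rw [smul_eq_mul, mul_comm, kr_mul]
        rfl
      rw [this]
      exact Submodule.smul_mem _ _ hx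
  · intro t ht
    obtain ⟨l, _, rfl⟩ := Finset.mem_image.mp ht
    rfl
  · intro x y hx hy
    exact Rg.mul_eq_zero hx hy

/-- The thickening attached to an extension. -/
theorem exists_thick (hS : (ShortComplex.mk u v w).ShortExact) (hL : Coh.IsQCoh L)
    [LocallyOfFiniteType pD] (hfin : ∀ V : D.Opens, IsAffineOpen V → Module.Finite Γ(D, V) Γ(L, V)) :
    ∃ (C : Scheme.{u}) (i : D ⟶ C) (pC : C ⟶ Spec (CommRingCat.of k)) (_ : IsClosedImmersion i)
      (_ : Surjective i) (δ : Der pC ((Scheme.Modules.pushforward i).obj E)),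
      i ≫ pC = pD ∧ LocallyOfFiniteType pC ∧
      (∀ (U : C.Opens) (a : Γ(C, U)), v.app (i ⁻¹ᵁ U) (show Γ(E, i ⁻¹ᵁ U) from δ.app U a) =
        d₂.app (i ⁻¹ᵁ U) (i.app U a)) ∧
      (∀ (U : C.Opens), IsAffineOpen U → ∀ a : Γ(C, U), i.app U a = 0 → δ.app U a = 0 → a = 0) ∧
      ∀ (U : C.Opens), IsAffineOpen U → ∀ (a : Γ(D, i ⁻¹ᵁ U)) (ω : Γ(E, i ⁻¹ᵁ U)),
        v.app (i ⁻¹ᵁ U) ω = d₂.app (i ⁻¹ᵁ U) a →
          ∃ b : Γ(C, U), i.app U b = a ∧ (show Γ(E, i ⁻¹ᵁ U) from δ.app U b) = ω := by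
  let A := dat hS d₂ hL
  let s : ∀ V : D.affineOpens, k →+* A.R V := fun V => sk v d₂ V.1
  obtain ⟨p, hp⟩ := exists_pc A s (by
    intro V W h c
    apply Rg.ext
    · change D.presheaf.map _ (pD.appLE ⊤ W.1 le_top _) = pD.appLE ⊤ V.1 le_top _
      rw [← ConcreteCategory.comp_apply, Scheme.Hom.appLE_map]
    · exact map_zero _)
  obtain ⟨δ, hδ⟩ := exists_delta hp E (fun V => Rg.q V.1) (fun _ _ => rfl) (fun _ _ _ => rfl)
    (fun _ _ => rfl)
  refine ⟨Gl A, incl A, p, inferInstance, inferInstance, δ, incl_comp hp fun _ _ => rfl,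
    locallyOfFiniteType hp fun V => sk_finiteType d₂ hS hL V.2 (hfin V.1 V.2), ?_, ?_, ?_⟩
  · exact v_der hδ fun V x => Rg.prop (V := V.1) x
  · intro U hU a ha hda
    exact eq_zero hδ (fun V x h1 h2 => Rg.ext h1 h2) (hU.preimage (incl A)) ha hda
  · intro U hU a ω h
    exact exists_eq hδ (fun V a ω h => ⟨⟨a, ω, h⟩, rfl, rfl⟩) (hU.preimage (incl A)) a ω h

end K953.ExtGlue

end
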