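import Mathlib.Algebra.Homology.DerivedCategory.Ext.ExactSequences
import Mathlib.Algebra.Homology.DerivedCategory.Ext.Linear
import Mathlib.Algebra.Homology.DerivedCategory.Ext.MapBijective
import Mathlib.LinearAlgebra.Dimension.Free
import Mathlib.LinearAlgebra.Basis.VectorSpace

/-!
# Killing extensions by a factorization, and comparing extensions of two cokernels

* `kill`: an endomorphism of a short exact sequence `0 → K → P → M → 0`, with `P` acyclic, whose action on `K` factors
  through an acyclic object, acts by zero on `Ext^q(M, F)`, `q ≥ 2`.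
* `nonempty_equiv`: if `0 → A → B → E → 0` and `0 → A → B → E' → 0` are short exact and the two maps `A → B` induce the
  same maps `Ext^q(B, F) → Ext^q(A, F)` for `q = j - 1, j`, then `Ext^j(E, F) ≃ Ext^j(E', F)` over a field.
-/

set_option autoImplicit false

universe w v u

open CategoryTheory CategoryTheory.Limits CategoryTheory.Abelian

namespace K953.ExtKill

variable {C : Type u} [Category.{v} C] [Abelian C] [HasExt.{w} C]

theorem kill {S : ShortComplex C} (hS : S.ShortExact) {F : C} (a : S ⟶ S) {P' : C} (α : S.X₁ ⟶ P')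
    (β : P' ⟶ S.X₁) (ha : a.τ₁ = α ≫ β) (hP : ∀ q, 1 ≤ q → ∀ x : Ext S.X₂ F q, x = 0)
    (hP' : ∀ q, 1 ≤ q → ∀ x : Ext P' F q, x = 0) {q : ℕ} (hq : 2 ≤ q) (x : Ext S.X₃ F q) :
    (Ext.mk₀ a.τ₃).comp x (zero_add q) = 0 := by
  obtain ⟨p, rfl⟩ : ∃ p, q = 1 + p := ⟨q - 1, by omega⟩
  obtain ⟨y, rfl⟩ := Ext.contravariant_sequence_exact₃ hS _ x (hP _ (by omega) _) (n₀ := p) rfl
  rw [← Ext.comp_assoc (a₁₂ := 1) _ _ _ (by omega) (by omega) (by omega),
    ← ShortComplex.ShortExact.extClass_naturality hS hS a, Ext.comp_assoc (a₂₃ := p) _ _ _ (by omega) (by omega) (by omega), ha,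
    ← Ext.mk₀_comp_mk₀, Ext.comp_assoc (a₂₃ := p) _ _ _ (by omega) (by omega) (by omega),
    hP' p (by omega) ((Ext.mk₀ β).comp y (zero_add p)), Ext.comp_zero, Ext.comp_zero]

section Linear

variable {k : Type*} [Field k] [Linear k C]

/-- precomposition with a morphism, linear in the second argument -/
noncomputable def pre {A B : C} (f : A ⟶ B) (F : C) (n : ℕ) : Ext B F n →ₗ[k] Ext A F n where
  toFun x := (Ext.mk₀ f).comp x (zero_add n)
  map_add' x y := by rw [Ext.comp_add]
  map_smul' a x := by rw [Ext.comp_smul]; rfl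

/-- the connecting map -/
noncomputable def dl {S : ShortComplex C} (hS : S.ShortExact) (F : C) {n m : ℕ} (h : 1 + n = m) :
    Ext S.X₁ F n →ₗ[k] Ext S.X₃ F m where
  toFun x := hS.extClass.comp x h
  map_add' x y := by rw [Ext.comp_add]
  map_smul' a x := by rw [Ext.comp_smul]; rfl

/-- `Ext^{n+1}(E, F)` is the product of a cokernel and a kernel -/
theorem nonempty_prod {S : ShortComplex C} (hS : S.ShortExact) (F : C) {n m : ℕ} (h : 1 + n = m) :
    Nonempty (Ext S.X₃ F m ≃ₗ[k] ((Ext S.X₁ F n ⧸ LinearMap.range (pre (k := k) S.f F n)) ×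
      LinearMap.ker (pre (k := k) S.f F m))) := by
  have e1 : LinearMap.ker (dl (k := k) hS F h) = LinearMap.range (pre (k := k) S.f F n) := by
    ext x
    constructor
    · intro hx
      obtain ⟨y, hy⟩ := Ext.contravariant_sequence_exact₁ hS _ x h hx
      exact ⟨y, hy⟩
    · rintro ⟨y, rfl⟩
      exact ShortComplex.ShortExact.extClass_comp_assoc hS y (h := h)
  have e2 : LinearMap.range (pre (k := k) S.g F m) = LinearMap.ker (pre (k := k) S.f F m) := by
    ext x
    constructor
    · rintro ⟨y, rfl⟩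
      change (Ext.mk₀ S.f).comp ((Ext.mk₀ S.g).comp y (zero_add m)) (zero_add m) = 0
      rw [Ext.mk₀_comp_mk₀_assoc, S.zero, Ext.mk₀_zero, Ext.zero_comp]
    · intro hx
      obtain ⟨y, hy⟩ := Ext.contravariant_sequence_exact₂ hS _ x hx
      exact ⟨y, hy⟩
  have e3 : LinearMap.ker (pre (k := k) S.g F m) = LinearMap.range (dl (k := k) hS F h) := by
    ext x
    constructor
    · intro hx
      obtain ⟨y, hy⟩ := Ext.contravariant_sequence_exact₃ hS _ x hx h
      exact ⟨y, hy⟩
    · rintro ⟨y, rfl⟩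
      exact ShortComplex.ShortExact.comp_extClass_assoc hS y h
  obtain ⟨Q, hQ⟩ := exists_isCompl (LinearMap.ker (pre (k := k) S.g F m))
  let E1 : Ext S.X₃ F m ≃ₗ[k] (LinearMap.ker (pre (k := k) S.g F m) × Q) :=
    (Submodule.prodEquivOfIsCompl _ _ hQ).symm
  let E2 : Q ≃ₗ[k] LinearMap.ker (pre (k := k) S.f F m) :=
    (Submodule.quotientEquivOfIsCompl _ _ hQ).symm.trans
      ((pre (k := k) S.g F m).quotKerEquivRange.trans (LinearEquiv.ofEq _ _ e2))
  let E3 : LinearMap.ker (pre (k := k) S.g F m) ≃ₗ[k]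
      (Ext S.X₁ F n ⧸ LinearMap.range (pre (k := k) S.f F n)) :=
    (LinearEquiv.ofEq _ _ e3).trans ((dl (k := k) hS F h).quotKerEquivRange.symm.trans
      (Submodule.quotEquivOfEq _ _ e1))
  exact ⟨E1.trans (E3.prodCongr E2)⟩

theorem nonempty_equiv {A B E E' : C} {f f' : A ⟶ B} {g : B ⟶ E} {g' : B ⟶ E'} {w : f ≫ g = 0} {w' : f' ≫ g' = 0}
    (hS : (ShortComplex.mk f g w).ShortExact) (hS' : (ShortComplex.mk f' g' w').ShortExact) (F : C) {n m : ℕ}
    (h : 1 + n = m) (h1 : ∀ x : Ext B F n, (Ext.mk₀ f).comp x (zero_add n) = (Ext.mk₀ f').comp x (zero_add n))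
    (h2 : ∀ x : Ext B F m, (Ext.mk₀ f).comp x (zero_add m) = (Ext.mk₀ f').comp x (zero_add m)) :
    Nonempty (Ext E F m ≃ₗ[k] Ext E' F m) := by
  obtain ⟨e⟩ := nonempty_prod (k := k) hS F h
  obtain ⟨e'⟩ := nonempty_prod (k := k) hS' F h
  have h3 : pre (k := k) f F n = pre (k := k) f' F n := LinearMap.ext h1
  have h4 : pre (k := k) f F m = pre (k := k) f' F m := LinearMap.ext h2
  exact ⟨e.trans (((Submodule.quotEquivOfEq _ _ (congrArg LinearMap.range h3)).prodCongr
    (LinearEquiv.ofEq _ _ (congrArg LinearMap.ker h4))).trans e'.symm)⟩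

end Linear

section Equiv

variable [EnoughInjectives C]

/-- an exact linear autoequivalence identifies the extension spaces -/
theorem nonempty_ext_equiv {k : Type*} [Field k] [Linear k C] (T : C ⥤ C) [T.IsEquivalence] [T.Additive] [T.Linear k]
    [PreservesFiniteLimits T] [PreservesFiniteColimits T] (X Y : C) (n : ℕ) :
    Nonempty (Ext X Y n ≃ₗ[k] Ext (T.obj X) (T.obj Y) n) := by
  have h : T.PreservesInjectiveObjects :=
    ⟨fun {I} hI => by
      have := hI
      exact Injective.injective_of_adjoint T.asEquivalence.symm.toAdjunction I⟩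
  refine ⟨LinearEquiv.ofBijective (T.mapExtLinearMap k X Y n) ?_⟩
  exact T.mapExt_bijective_of_preservesInjectiveObjects X Y n

end Equiv

end K953.ExtKill
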