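import Mathlib.Algebra.Homology.DerivedCategory.Ext.ExactSequences

/-!
# Morphisms of extensions and classes in `Ext¹`

* `exists_section_iff`: a short exact sequence splits iff its class vanishes;
* `exists_middle`: if `e · α = e'` there is a morphism of extensions `(α, τ, 𝟙)`;
* `isIso_middle`: it is an isomorphism if `α` is.
-/

set_option autoImplicit false

universe w v u

open CategoryTheory CategoryTheory.Limits Abelian

namespace K953.ExtMor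

variable {C : Type u} [Category.{v} C] [Abelian C] [HasExt.{w} C]

theorem exists_section_iff {S : ShortComplex C} (hS : S.ShortExact) :
    (∃ σ : S.X₃ ⟶ S.X₂, σ ≫ S.g = 𝟙 S.X₃) ↔ hS.extClass = 0 := by
  constructor
  · rintro ⟨σ, hσ⟩
    rw [← Ext.mk₀_id_comp hS.extClass, ← hσ, ← Ext.mk₀_comp_mk₀_assoc, hS.comp_extClass,
      Ext.comp_zero]
  · intro h
    obtain ⟨x, hx⟩ := Ext.covariant_sequence_exact₃ S.X₃ hS (Ext.mk₀ (𝟙 S.X₃)) (zero_add 1)
      (by rw [Ext.mk₀_id_comp, h])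
    refine ⟨Ext.homEquiv₀ x, ?_⟩
    apply (Ext.mk₀_bijective _ _).1
    rw [← Ext.mk₀_comp_mk₀, Ext.mk₀_homEquiv₀_apply, hx]

/-- A morphism of extensions of a fixed object realizing an equality of classes. -/
theorem exists_middle {L E L' E' Ω : C} {f : L ⟶ E} {g : E ⟶ Ω} {f' : L' ⟶ E'} {g' : E' ⟶ Ω}
    {w : f ≫ g = 0} {w' : f' ≫ g' = 0} (hS : (ShortComplex.mk f g w).ShortExact)
    (hS' : (ShortComplex.mk f' g' w').ShortExact) (α : L ⟶ L')
    (h : hS.extClass.comp (Ext.mk₀ α) (add_zero 1) = hS'.extClass) :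
    ∃ τ : E ⟶ E', τ ≫ g' = g ∧ f ≫ τ = α ≫ f' := by
  have : Mono f' := hS'.mono_f
  -- lift `g` along `g'`
  obtain ⟨x, hx⟩ := Ext.covariant_sequence_exact₃ E hS' (Ext.mk₀ g) (zero_add 1) (by
    rw [← h]
    exact hS.comp_extClass_assoc (Ext.mk₀ α) (add_zero 1))
  obtain ⟨τ₀, hτ₀⟩ : ∃ τ₀ : E ⟶ E', τ₀ ≫ g' = g := by
    refine ⟨Ext.homEquiv₀ x, ?_⟩
    apply (Ext.mk₀_bijective _ _).1
    rw [← Ext.mk₀_comp_mk₀, Ext.mk₀_homEquiv₀_apply]
    exact hx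
  -- the induced map on kernels
  obtain ⟨β, hβ⟩ : ∃ β : L ⟶ L', β ≫ f' = f ≫ τ₀ := by
    have h0 : (f ≫ τ₀) ≫ g' = 0 := by rw [Category.assoc, hτ₀, w]
    exact ⟨hS'.exact.lift (f ≫ τ₀) h0, hS'.exact.lift_f (f ≫ τ₀) h0⟩
  have hn := ShortComplex.ShortExact.extClass_naturality hS hS'
    (ShortComplex.homMk (S₁ := ShortComplex.mk f g w) (S₂ := ShortComplex.mk f' g' w')
      β τ₀ (𝟙 Ω) hβ (by rw [Category.comp_id]; exact hτ₀))
  have hn' : hS.extClass.comp (Ext.mk₀ β) (add_zero 1) = hS'.extClass := by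
    refine hn.trans ?_
    exact Ext.mk₀_id_comp hS'.extClass
  have h0 : hS.extClass.comp (Ext.mk₀ (β - α)) (add_zero 1) = 0 := by
    rw [sub_eq_add_neg, Ext.mk₀_add, Ext.mk₀_neg, Ext.comp_add, Ext.comp_neg, hn', h]
    exact add_neg_cancel _
  obtain ⟨y, hy⟩ := Ext.contravariant_sequence_exact₁ hS L' (Ext.mk₀ (β - α)) (add_zero 1) h0
  obtain ⟨γ, hγ⟩ : ∃ γ : E ⟶ L', f ≫ γ = β - α := by
    refine ⟨Ext.homEquiv₀ y, ?_⟩
    apply (Ext.mk₀_bijective _ _).1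
    rw [← Ext.mk₀_comp_mk₀, Ext.mk₀_homEquiv₀_apply]
    exact hy
  refine ⟨τ₀ - γ ≫ f', ?_, ?_⟩
  · rw [Preadditive.sub_comp, Category.assoc, w', comp_zero, sub_zero, hτ₀]
  · rw [Preadditive.comp_sub, ← Category.assoc, hγ, Preadditive.sub_comp, hβ]
    abel

omit [HasExt.{w} C] in
theorem isIso_middle {L E L' E' Ω : C} {f : L ⟶ E} {g : E ⟶ Ω} {f' : L' ⟶ E'} {g' : E' ⟶ Ω}
    {w : f ≫ g = 0} {w' : f' ≫ g' = 0} (hS : (ShortComplex.mk f g w).ShortExact)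
    (hS' : (ShortComplex.mk f' g' w').ShortExact) (α : L ⟶ L') [IsIso α] (τ : E ⟶ E')
    (h1 : τ ≫ g' = g) (h2 : f ≫ τ = α ≫ f') : IsIso τ := by
  let F : ShortComplex.mk f g w ⟶ ShortComplex.mk f' g' w' :=
    ShortComplex.homMk α τ (𝟙 Ω) h2.symm (by rw [Category.comp_id]; exact h1)
  exact ShortComplex.isIso₂_of_shortExact_of_isIso₁₃' F hS hS' ‹IsIso α›
    (inferInstanceAs (IsIso (𝟙 Ω)))

/-- Naturality of the class for a morphism of extensions of a fixed object. -/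
theorem extClass_comp_of_hom {L E L' E' Ω : C} {f : L ⟶ E} {g : E ⟶ Ω} {f' : L' ⟶ E'} {g' : E' ⟶ Ω}
    {w : f ≫ g = 0} {w' : f' ≫ g' = 0} (hS : (ShortComplex.mk f g w).ShortExact)
    (hS' : (ShortComplex.mk f' g' w').ShortExact) (α : L ⟶ L') (τ : E ⟶ E')
    (h1 : τ ≫ g' = g) (h2 : f ≫ τ = α ≫ f') :
    hS.extClass.comp (Ext.mk₀ α) (add_zero 1) = hS'.extClass := by
  have hn := ShortComplex.ShortExact.extClass_naturality hS hS'
    (ShortComplex.homMk (S₁ := ShortComplex.mk f g w) (S₂ := ShortComplex.mk f' g' w')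
      α τ (𝟙 Ω) h2.symm (by rw [Category.comp_id]; exact h1))
  refine hn.trans ?_
  exact Ext.mk₀_id_comp hS'.extClass

end K953.ExtMor
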