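import Groth.Agent.MultCurve.K953.RibHom

/-!
# The differential of a morphism out of a thickening, restricted to the subscheme

`i : D ⟶ C`, `g : C ⟶ X`, `f = i ≫ g`: `gMap : f^* Ω₃ ⟶ i^* Ω₁`, the restriction of the differential of `g`;
the bijection between extensions of `f` and lifts of `df`.
-/

set_option autoImplicit false

universe u

open CategoryTheory CategoryTheory.Limits AlgebraicGeometry Opposite TopologicalSpace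

namespace K953.RibDiff

open OmegaSh
open Groth.Agent.UnramB.FirstOrderNbhd (SqZ)
open K583.Retract K583.DerAffine K583.DerFunct K953.RibSec K953.RibHom

section Def

variable {D C X S : Scheme.{u}} {i : D ⟶ C} {pC : C ⟶ S} {pX : X ⟶ S} {g : C ⟶ X} {f : D ⟶ X}
  {Ω₁ : C.Modules} (d₁ : Der pC Ω₁)

theorem le_pre (hg : i ≫ g = f) (U : X.Opens) : f ⁻¹ᵁ U ≤ i ⁻¹ᵁ (g ⁻¹ᵁ U) := by
  rw [← Scheme.Hom.comp_preimage, hg]

/-- The derivation `a ↦ i^*(d₁ (g♯ a))`. -/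
noncomputable def gDer (hg : i ≫ g = f) (hgS : g ≫ pX = pC) :
    Der pX ((Scheme.Modules.pushforward f).obj ((Scheme.Modules.pullback i).obj Ω₁)) :=
  mkDer pX _ (fun U => (pS i Ω₁ (g ⁻¹ᵁ U) (f ⁻¹ᵁ U) (le_pre hg U)).comp
      ((d₁.app (g ⁻¹ᵁ U)).comp (g.app U).hom.toAddMonoidHom))
    (fun U a b => by
      change pS i Ω₁ (g ⁻¹ᵁ U) (f ⁻¹ᵁ U) (le_pre hg U) (d₁.app (g ⁻¹ᵁ U) (g.app U (a * b))) =
        f.app U a • pS i Ω₁ (g ⁻¹ᵁ U) (f ⁻¹ᵁ U) (le_pre hg U) (d₁.app (g ⁻¹ᵁ U) (g.app U b)) +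
        f.app U b • pS i Ω₁ (g ⁻¹ᵁ U) (f ⁻¹ᵁ U) (le_pre hg U) (d₁.app (g ⁻¹ᵁ U) (g.app U a))
      have ha : ∀ a : Γ(X, U), i.appLE (g ⁻¹ᵁ U) (f ⁻¹ᵁ U) (le_pre hg U) (g.app U a) =
          f.app U a := by
        intro a
        rw [Scheme.Hom.app_eq_appLE, Scheme.Hom.app_eq_appLE, appLE_appLE_apply]
        exact appLE_congr_apply hg _ _ _ _ _
      rw [map_mul, app_mul, map_add, pS_smul, pS_smul, ha, ha])
    (fun U V e a => by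
      change pS i Ω₁ (g ⁻¹ᵁ V) (f ⁻¹ᵁ V) (le_pre hg V)
          (d₁.app (g ⁻¹ᵁ V) (g.app V (X.presheaf.map (homOfLE e).op a))) =
        ((Scheme.Modules.pullback i).obj Ω₁).presheaf.map (homOfLE (f.preimage_mono e)).op
          (pS i Ω₁ (g ⁻¹ᵁ U) (f ⁻¹ᵁ U) (le_pre hg U) (d₁.app (g ⁻¹ᵁ U) (g.app U a)))
      have e1 : g.app V (X.presheaf.map (homOfLE e).op a) =
          C.presheaf.map (homOfLE (g.preimage_mono e)).op (g.app U a) :=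
        congr($(g.naturality (homOfLE e).op) a)
      rw [e1, app_map, pS_map, map_pS])
    (fun V c => by
      change pS i Ω₁ (g ⁻¹ᵁ (pX ⁻¹ᵁ V)) (f ⁻¹ᵁ (pX ⁻¹ᵁ V)) (le_pre hg (pX ⁻¹ᵁ V))
          (d₁.app (g ⁻¹ᵁ (pX ⁻¹ᵁ V)) (g.app (pX ⁻¹ᵁ V) (pX.app V c))) = 0
      have e0 : g ⁻¹ᵁ (pX ⁻¹ᵁ V) ≤ pC ⁻¹ᵁ V := by
        rw [← Scheme.Hom.comp_preimage, hgS]
      have e1 : g.app (pX ⁻¹ᵁ V) (pX.app V c) = pC.appLE V (g ⁻¹ᵁ (pX ⁻¹ᵁ V)) e0 c := by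
        rw [Scheme.Hom.app_eq_appLE, Scheme.Hom.app_eq_appLE, appLE_appLE_apply]
        exact appLE_congr_apply hgS _ _ _ _ _
      rw [e1, K583.DerAffine.app_appLE, map_zero])

theorem gDer_app (hg : i ≫ g = f) (hgS : g ≫ pX = pC) (U : X.Opens) (a : Γ(X, U)) :
    (gDer d₁ hg hgS).app U a = (show Γ((Scheme.Modules.pullback i).obj Ω₁, f ⁻¹ᵁ U) from
      pS i Ω₁ (g ⁻¹ᵁ U) (f ⁻¹ᵁ U) (le_pre hg U) (d₁.app (g ⁻¹ᵁ U) (g.app U a))) := rfl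

variable {Ω₃ : X.Modules} {d₃ : Der pX Ω₃}

/-- The restriction of the differential of `g`. -/
noncomputable def gMap (hd₃ : IsUniversal d₃) (hg : i ≫ g = f) (hgS : g ≫ pX = pC) :
    (Scheme.Modules.pullback f).obj Ω₃ ⟶ (Scheme.Modules.pullback i).obj Ω₁ :=
  adj f (univLift hd₃ (gDer d₁ hg hgS))

theorem gMap_app (hd₃ : IsUniversal d₃) (hg : i ≫ g = f) (hgS : g ≫ pX = pC) (U : X.Opens)
    (a : Γ(X, U)) (V : D.Opens) (e : V ≤ i ⁻¹ᵁ (g ⁻¹ᵁ U)) (e' : V ≤ f ⁻¹ᵁ U) :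
    (gMap d₁ hd₃ hg hgS).app V (pS f Ω₃ U V e' (d₃.app U a)) =
      pS i Ω₁ (g ⁻¹ᵁ U) V e (d₁.app _ (g.app U a)) := by
  have h1 : (gMap d₁ hd₃ hg hgS).app (f ⁻¹ᵁ U) (pS f Ω₃ U (f ⁻¹ᵁ U) le_rfl (d₃.app U a)) =
      pS i Ω₁ (g ⁻¹ᵁ U) (f ⁻¹ᵁ U) (le_pre hg U) (d₁.app _ (g.app U a)) := by
    rw [pS_self, gMap, adj_pullSect, univLift_app]
    rfl
  have h2 := congrArg (((Scheme.Modules.pullback i).obj Ω₁).presheaf.map (homOfLE e').op) h1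
  rw [map_pS] at h2
  rw [← h2]
  exact (app_pS_gen (gMap d₁ hd₃ hg hgS) U (f ⁻¹ᵁ U) V le_rfl e' _).symm

/-- Morphisms out of `f^* Ω₃` agreeing on differentials agree. -/
theorem pull_ext (hd₃ : IsUniversal d₃) {F : D.Modules}
    {α β : (Scheme.Modules.pullback f).obj Ω₃ ⟶ F}
    (H : ∀ (U : X.Opens) (a : Γ(X, U)), α.app (f ⁻¹ᵁ U) (pS f Ω₃ U (f ⁻¹ᵁ U) le_rfl (d₃.app U a)) =
      β.app (f ⁻¹ᵁ U) (pS f Ω₃ U (f ⁻¹ᵁ U) le_rfl (d₃.app U a))) : α = β := by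
  apply ((Scheme.Modules.pullbackPushforwardAdjunction f).homEquiv Ω₃ F).injective
  apply univ_hom_ext hd₃
  intro U a
  rw [Adjunction.homEquiv_unit, Adjunction.homEquiv_unit]
  have := H U a
  rw [pS_self] at this
  exact this

variable {S' : Scheme.{u}} {pD : D ⟶ S'} {Ω₂ : D.Modules} {d₂ : Der pD Ω₂}
  {c : (Scheme.Modules.pullback i).obj Ω₁ ⟶ Ω₂}
  {df : (Scheme.Modules.pullback f).obj Ω₃ ⟶ Ω₂}

variable {d₁}

theorem gMap_comp (hc : IsDiffCompat i d₁ d₂ c) (hd₃ : IsUniversal d₃)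
    (hdf : IsDiffCompat f d₃ d₂ df) (hg : i ≫ g = f) (hgS : g ≫ pX = pC) :
    gMap d₁ hd₃ hg hgS ≫ c = df := by
  apply pull_ext hd₃
  intro U a
  have h1 : (gMap d₁ hd₃ hg hgS ≫ c).app (f ⁻¹ᵁ U)
      (pS f Ω₃ U (f ⁻¹ᵁ U) le_rfl (d₃.app U a)) =
      c.app (f ⁻¹ᵁ U) ((gMap d₁ hd₃ hg hgS).app (f ⁻¹ᵁ U)
      (pS f Ω₃ U (f ⁻¹ᵁ U) le_rfl (d₃.app U a))) := rfl
  rw [h1, gMap_app d₁ hd₃ hg hgS U a _ (le_pre hg U) le_rfl, app_pS' i hc, pS_self, hdf]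
  congr 1
  rw [Scheme.Hom.app_eq_appLE, Scheme.Hom.app_eq_appLE, appLE_appLE_apply]
  exact appLE_congr_apply hg _ _ _ _ _

end Def

section Main

variable {D C X S : Scheme.{u}} {i : D ⟶ C} [IsClosedImmersion i] [Surjective i]
  {pC : C ⟶ S} {pX : X ⟶ S} {f : D ⟶ X}
  {Ω₁ : C.Modules} {d₁ : Der pC Ω₁} {Ω₃ : X.Modules} {d₃ : Der pX Ω₃}
  {S' : Scheme.{u}} {pD : D ⟶ S'} {Ω₂ : D.Modules} {d₂ : Der pD Ω₂}
  {φ : Omega.conormal i ⟶ (Scheme.Modules.pullback i).obj Ω₁}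
  {c : (Scheme.Modules.pullback i).obj Ω₁ ⟶ Ω₂}
  {df : (Scheme.Modules.pullback f).obj Ω₃ ⟶ Ω₂}

/-- The morphism attached to a lift of `df`, over the base. -/
theorem exists_hom_over (hi : SqZ i) (hφ : IsConormalDiff i d₁ φ) [Mono φ]
    (hc : IsDiffCompat i d₁ d₂ c) {hw : φ ≫ c = 0} (hex : (ShortComplex.mk φ c hw).Exact)
    (hf : f ≫ pX = i ≫ pC) (hd₃ : IsUniversal d₃) (hdf : IsDiffCompat f d₃ d₂ df)
    (s : (Scheme.Modules.pullback f).obj Ω₃ ⟶ (Scheme.Modules.pullback i).obj Ω₁)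
    (hs : s ≫ c = df) :
    ∃ (g : C ⟶ X) (hg : i ≫ g = f) (hgS : g ≫ pX = pC), gMap d₁ hd₃ hg hgS = s := by
  obtain ⟨g, hg, H⟩ := exists_hom hi hφ hc hex hdf hs
  have hgS : g ≫ pX = pC := by
    refine RibHom.hom_ext i hi hφ (by rw [← Category.assoc, hg, hf]) ?_
    intro U a V e e'
    have e₁ : V ≤ f ⁻¹ᵁ (pX ⁻¹ᵁ U) := by
      rw [← hg]
      exact e
    have h1 := H (pX ⁻¹ᵁ U) (pX.app U a) V e e₁
    have h2 : (g ≫ pX).app U a = g.app (pX ⁻¹ᵁ U) (pX.app U a) := rfl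
    rw [h2, app_base, map_zero]
    refine h1.trans ?_
    rw [app_base, map_zero, map_zero]
  refine ⟨g, hg, hgS, ?_⟩
  apply pull_ext hd₃
  intro U a
  rw [gMap_app d₁ hd₃ hg hgS U a _ (le_pre hg U) le_rfl, H U a _ (le_pre hg U) le_rfl]

/-- Extensions are determined by their differentials. -/
theorem hom_ext (hi : SqZ i) (hφ : IsConormalDiff i d₁ φ) [Mono φ] (hd₃ : IsUniversal d₃)
    {g g' : C ⟶ X} (hg : i ≫ g = f) (hgS : g ≫ pX = pC) (hg' : i ≫ g' = f)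
    (hgS' : g' ≫ pX = pC) (h : gMap d₁ hd₃ hg hgS = gMap d₁ hd₃ hg' hgS') : g = g' := by
  refine RibHom.hom_ext i hi hφ (by rw [hg, hg']) ?_
  intro U a V e e'
  have e₁ : V ≤ f ⁻¹ᵁ U := by
    rw [← hg]
    exact e
  rw [← gMap_app d₁ hd₃ hg hgS U a V e e₁, ← gMap_app d₁ hd₃ hg' hgS' U a V e' e₁, h]

end Main

end K953.RibDiff
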