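import Groth.Agent.MultCurve.K953.ExtGlue
import Groth.Agent.MultCurve.K953.ExtMor
import Groth.Agent.MultCurve.K953.RibDiff
import Groth.Agent.OmegaSh.K583.ExistsUniv
import Groth.Agent.OmegaSh.K561.ConDiff
import Groth.Agent.S5976

/-!
# The restricted cotangent sequence of the thickening attached to an extension
-/

set_option autoImplicit false

open AlgebraicGeometry CategoryTheory Limits TopologicalSpace Opposite

universe w u

namespace K953.ExtRibbon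

open OmegaSh Groth.Agent.Sga67.Sec
open Groth.Agent.Dual.H366.ConSec
open Groth.Agent.UnramB.FirstOrderNbhd (SqZ)
open K584.PullCon K583.Retract K583.ConSect K583.DerAffine K583.DerFunct
open K953.RibSec K953.RibDiff

variable {k : Type u} [Field k] {D C : Scheme.{u}} {i : D ⟶ C} [IsClosedImmersion i] [Surjective i]
  {pC : C ⟶ Spec (CommRingCat.of k)} {L E Ω₂ : D.Modules} {α : L ⟶ E} {v : E ⟶ Ω₂} {w : α ≫ v = 0}
  {d₂ : Der (i ≫ pC) Ω₂} {δ : Der pC ((Scheme.Modules.pushforward i).obj E)}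

omit [IsClosedImmersion i] [Surjective i] in
/-- The Leibniz rule for the derivation into the push-forward -/
theorem δ_mul (U : C.Opens) (a b : Γ(C, U)) :
    (show Γ(E, i ⁻¹ᵁ U) from δ.app U (a * b)) =
      i.app U a • (show Γ(E, i ⁻¹ᵁ U) from δ.app U b) +
      i.app U b • (show Γ(E, i ⁻¹ᵁ U) from δ.app U a) :=
  app_mul δ U a b

omit [Surjective i] in
theorem ker_sq (h2 : ∀ (U : C.Opens), IsAffineOpen U → ∀ a : Γ(C, U), i.app U a = 0 →
    δ.app U a = 0 → a = 0) : i.ker ^ 2 = ⊥ := by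
  apply Scheme.IdealSheafData.ext
  funext U
  rw [Scheme.IdealSheafData.ideal_pow, Pi.pow_apply, pow_two, Scheme.IdealSheafData.ideal_bot]
  rw [Pi.bot_apply, eq_bot_iff, Ideal.mul_le]
  intro x hx y hy
  rw [Scheme.Hom.ker_apply, RingHom.mem_ker] at hx hy
  rw [Ideal.mem_bot]
  apply h2 U.1 U.2
  · rw [map_mul]
    have hx' : i.app U.1 x = 0 := hx
    rw [hx', zero_mul]
  · have h := δ_mul (δ := δ) U.1 x y
    have hx' : i.app U.1 x = 0 := hx
    have hy' : i.app U.1 y = 0 := hy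
    rw [hx', hy', zero_smul, zero_smul, add_zero] at h
    exact h

section Main

variable (hS : (ShortComplex.mk α v w).ShortExact)
  (h1 : ∀ (U : C.Opens) (a : Γ(C, U)), v.app (i ⁻¹ᵁ U) (show Γ(E, i ⁻¹ᵁ U) from δ.app U a) =
        d₂.app (i ⁻¹ᵁ U) (i.app U a))
  (h2 : ∀ (U : C.Opens), IsAffineOpen U → ∀ a : Γ(C, U), i.app U a = 0 → δ.app U a = 0 → a = 0)
  (h3 : ∀ (U : C.Opens), IsAffineOpen U → ∀ (a : Γ(D, i ⁻¹ᵁ U)) (ω : Γ(E, i ⁻¹ᵁ U)),
        v.app (i ⁻¹ᵁ U) ω = d₂.app (i ⁻¹ᵁ U) a →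
          ∃ b : Γ(C, U), i.app U b = a ∧ (show Γ(E, i ⁻¹ᵁ U) from δ.app U b) = ω)
  {Ω₁ : C.Modules} {d₁ : Der pC Ω₁} (hd₁ : IsUniversal d₁)

omit [IsClosedImmersion i] [Surjective i] in
/-- `i^* Ω₁ ⟶ E`. -/
noncomputable def tau (δ : Der pC ((Scheme.Modules.pushforward i).obj E)) (hd₁ : IsUniversal d₁) :
    (Scheme.Modules.pullback i).obj Ω₁ ⟶ E := adj i (univLift hd₁ δ)

omit [IsClosedImmersion i] [Surjective i] in
theorem tau_app (U : C.Opens) (a : Γ(C, U)) :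
    (tau δ hd₁).app (i ⁻¹ᵁ U) (pullSect i Ω₁ U (d₁.app U a)) =
      (show Γ(E, i ⁻¹ᵁ U) from δ.app U a) := by
  refine (adj_pullSect i _ U _).trans ?_
  exact univLift_app hd₁ δ U a

include h1 in
omit [IsClosedImmersion i] [Surjective i] in
theorem isDiffCompat_tau : IsDiffCompat i d₁ d₂ (tau δ hd₁ ≫ v) := by
  intro U a
  refine Eq.trans ?_ (h1 U a)
  exact congrArg (v.app (i ⁻¹ᵁ U)) (tau_app hd₁ U a)

variable {φ : Omega.conormal i ⟶ (Scheme.Modules.pullback i).obj Ω₁} (hφ : IsConormalDiff i d₁ φ)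

include hφ in
omit [IsClosedImmersion i] [Surjective i] in
theorem phi_tau_app (U : C.Opens) (s : Γ(ClSub.idealMod i.ker, U)) :
    (φ ≫ tau δ hd₁).app (i ⁻¹ᵁ U) (conormalSect i U s) =
      (show Γ(E, i ⁻¹ᵁ U) from δ.app U (idealSect i.ker U s)) := by
  refine Eq.trans ?_ (tau_app hd₁ U _)
  exact congrArg ((tau δ hd₁).app (i ⁻¹ᵁ U)) (hφ U s)

include h1 hφ in
omit [Surjective i] in
theorem phi_comp : φ ≫ tau δ hd₁ ≫ v = 0 := by
  rw [← Category.assoc]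
  apply pull_hom_ext
  intro U s
  have e1 := congrArg (v.app (i ⁻¹ᵁ U)) (phi_tau_app (δ := δ) hd₁ hφ U s)
  refine e1.trans ((h1 U _).trans ?_)
  rw [app_idealSect, map_zero]
  rfl

include hS h1 hφ in
omit [Surjective i] in
theorem exists_theta : ∃ θ : Omega.conormal i ⟶ L, θ ≫ α = φ ≫ tau δ hd₁ := by
  have : Mono (ShortComplex.mk α v w).f := hS.mono_f
  refine ⟨hS.exact.lift (φ ≫ tau δ hd₁) ?_, hS.exact.lift_f _ _⟩
  rw [Category.assoc]
  exact phi_comp h1 hd₁ hφ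

include hS h2 h3 hφ in
omit [Surjective i] in
theorem isIso_theta {θ : Omega.conormal i ⟶ L} (hθ : θ ≫ α = φ ≫ tau δ hd₁) : IsIso θ := by
  have hmono : Mono α := hS.mono_f
  have hi : SqZ i := SqZ.of_ker i (ker_sq (δ := δ) h2)
  have key : ∀ (U : C.Opens) (s : Γ(ClSub.idealMod i.ker, U)),
      α.app (i ⁻¹ᵁ U) (θ.app (i ⁻¹ᵁ U) (conormalSect i U s)) =
        (show Γ(E, i ⁻¹ᵁ U) from δ.app U (idealSect i.ker U s)) := by
    intro U s
    rw [← phi_tau_app (δ := δ) hd₁ hφ U s, ← hθ]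
    rfl
  have hnhd : ∀ (x : D) (W : D.Opens), x ∈ W → ∃ U : C.Opens, IsAffineOpen U ∧ i ⁻¹ᵁ U ≤ W ∧
      x ∈ i ⁻¹ᵁ U := by
    intro x W hx
    obtain ⟨W', rfl⟩ : ∃ W' : C.Opens, i ⁻¹ᵁ W' = W := by
      obtain ⟨O, hO, hO'⟩ := i.isClosedEmbedding.isInducing.isOpen_iff.mp W.2
      exact ⟨⟨O, hO⟩, Opens.ext hO'⟩
    obtain ⟨_, ⟨U, hU, rfl⟩, hxU, hUW⟩ :=
      C.isBasis_affineOpens.exists_subset_of_mem_open (show i x ∈ W' from hx) W'.2
    have hUW : U ≤ W' := hUW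
    exact ⟨U, hU, i.preimage_mono hUW, hxU⟩
  have m : Mono θ := by
    apply mono_of_locally_injective
    intro x W hx
    obtain ⟨U, hU, hUW, hxU⟩ := hnhd x W hx
    refine ⟨i ⁻¹ᵁ U, hUW, hxU, ?_⟩
    intro s hs
    obtain ⟨t, rfl⟩ := cS_surjective i hU s
    have e1 : θ.app (i ⁻¹ᵁ U) (conormalSect i U t) = 0 := by
      rw [conormalSect_eq_cS]
      exact hs
    have e2 := key U t
    rw [e1, map_zero] at e2
    have e3 : idealSect i.ker U t = 0 := h2 U hU _ (app_idealSect i U t) e2.symm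
    have e4 : t = 0 := idealSect_inj i.ker (e3.trans (map_zero _).symm)
    rw [e4, map_zero]
  have e : Epi θ := by
    apply epi_of_locally_surjective
    intro W s x hx
    obtain ⟨U, hU, hUW, hxU⟩ := hnhd x W hx
    refine ⟨i ⁻¹ᵁ U, hUW, hxU, ?_⟩
    let l : Γ(L, i ⁻¹ᵁ U) := res L hUW s
    have hl : v.app (i ⁻¹ᵁ U) (α.app (i ⁻¹ᵁ U) l) = d₂.app (i ⁻¹ᵁ U) 0 := by
      rw [map_zero]
      exact (congr($(congrArg (fun f => Scheme.Modules.Hom.app f (i ⁻¹ᵁ U)) w) l) :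
        (α ≫ v).app (i ⁻¹ᵁ U) l = (0 : L ⟶ Ω₂).app (i ⁻¹ᵁ U) l)
    obtain ⟨b, hb1, hb2⟩ := h3 U hU 0 _ hl
    refine ⟨cS i U (idLift i U b hb1), ?_⟩
    apply injective_of_mono α
    have e2 := key U (idLift i U b hb1)
    rw [idealSect_idLift, hb2, conormalSect_eq_cS] at e2
    exact e2
  exact isIso_of_mono_of_epi θ

end Main

end K953.ExtRibbon
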