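import Groth.Agent.MultCurve.K953.ExtZ

/-!
# Comparing extension groups of locally isomorphic modules

`twist`: two open sets `U`, `V` cover `X`, and `M`, `N` are identified over `U` and over `V` by `hU`, `hV` with
`hV = hU ∘ (1 + ε)` over `U ⊓ V`.  If `ε` acts by zero on `Ext^q(TF (U ⊓ V) M, F)` for `q = j - 1, j`, then
`Ext^j(M, F)` and `Ext^j(N, F)` are isomorphic.
-/

set_option autoImplicit false

universe w u

open CategoryTheory CategoryTheory.Limits AlgebraicGeometry Opposite TopologicalSpace CategoryTheory.Abelian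

namespace K953.ExtTwist

open Groth.Agent Groth.Agent.PerfC.ExtZero Groth.Agent.PerfA.TFMV Groth.Agent.CohqB.HomSheaf K953.ExtZ K953.ExtKill

variable {X : Scheme.{u}} {U V : X.Opens} {M N P : X.Modules}

theorem isIso_inc_of_eq_top (hU : U = ⊤) (F : X.Modules) : IsIso (inc U F) := by
  subst hU
  rw [Scheme.Modules.Hom.isIso_iff_isIso_app]
  intro V
  rw [ConcreteCategory.isIso_iff_bijective]
  exact inc_app_bijective_of_le ⊤ F le_top

/-- precomposition with an isomorphism -/
noncomputable def preIso [HasExt.{w} X.Modules] {k : Type*} [Field k] [Linear k X.Modules] (e : M ≅ N) (F : X.Modules)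
    (n : ℕ) : Ext N F n ≃ₗ[k] Ext M F n :=
  LinearEquiv.ofLinearMap (pre e.hom F n) (pre e.inv F n)
    (LinearMap.ext fun x => by
      change (Ext.mk₀ e.hom).comp ((Ext.mk₀ e.inv).comp x (zero_add n)) (zero_add n) = x
      rw [Ext.mk₀_comp_mk₀_assoc, e.hom_inv_id, Ext.mk₀_id_comp])
    (LinearMap.ext fun x => by
      change (Ext.mk₀ e.inv).comp ((Ext.mk₀ e.hom).comp x (zero_add n)) (zero_add n) = x
      rw [Ext.mk₀_comp_mk₀_assoc, e.inv_hom_id, Ext.mk₀_id_comp])

theorem twist [HasExt.{w} X.Modules] {k : Type*} [Field k] [Linear k X.Modules] (hUV : U ⊔ V = ⊤)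
    (hU : Γ(homSheaf M N, U)) (hV : Γ(homSheaf M N, V))
    (bU : ∀ (W : X.Opens) (hW : W ≤ U), Function.Bijective (comp hU W hW))
    (bV : ∀ (W : X.Opens) (hW : W ≤ V), Function.Bijective (comp hV W hW))
    (ε : (TF (U ⊓ V)).obj M ⟶ (TF (U ⊓ V)).obj M)
    (hε : ∀ (W : X.Opens) (hW : W ≤ U ⊓ V) (s : Γ((TF (U ⊓ V)).obj M, W)),
      comp hV W (hW.trans inf_le_right) ((inc _ M).app W s) =
        comp hU W (hW.trans inf_le_left) ((inc _ M).app W s + (inc _ M).app W (ε.app W s)))
    (F : X.Modules) {n m : ℕ} (h : 1 + n = m)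
    (h1 : ∀ x : Ext ((TF (U ⊓ V)).obj M) F n, (Ext.mk₀ ε).comp x (zero_add n) = 0)
    (h2 : ∀ x : Ext ((TF (U ⊓ V)).obj M) F m, (Ext.mk₀ ε).comp x (zero_add m) = 0) :
    Nonempty (Ext M F m ≃ₗ[k] Ext N F m) := by
  obtain ⟨fU, hfU⟩ := exists_ext hU
  obtain ⟨fV, hfV⟩ := exists_ext hV
  obtain ⟨gU, hgU⟩ := exists_ext ((homSheaf M N).presheaf.map (homOfLE (inf_le_left : U ⊓ V ≤ U)).op hU)
  obtain ⟨gV, hgV⟩ := exists_ext ((homSheaf M N).presheaf.map (homOfLE (inf_le_right : U ⊓ V ≤ V)).op hV)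
  have iU := isIso_of_bijective hfU bU
  have iV := isIso_of_bijective hfV bV
  have iW := isIso_of_bijective hgV (fun W hW => bV W (hW.trans inf_le_right))
  have e1 : gU ≫ mapLE inf_le_left N = mapLE inf_le_left M ≫ fU := hfU.comp_mapLE _ hgU
  have e2 : gV ≫ mapLE inf_le_right N = mapLE inf_le_right M ≫ fV := hfV.comp_mapLE _ hgV
  have e3 : gV = (𝟙 _ + ε) ≫ gU := by
    refine tf_hom_ext fun W hW s => ?_
    apply inc_app_injective _ N W
    rw [hgV W hW]
    have e4 : ((𝟙 _ + ε) ≫ gU).app W s = gU.app W (s + ε.app W s) := rfl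
    rw [e4, hgU W hW, map_add ((inc (U ⊓ V) M).app W).hom]
    exact hε W hW s
  -- the short exact sequence
  let B := (TF U).obj M ⊞ (TF V).obj M
  let f : (TF (U ⊓ V)).obj M ⟶ B := biprod.lift ((𝟙 _ + ε) ≫ mapLE inf_le_left M) (-mapLE inf_le_right M)
  let g : B ⟶ (TF (U ⊔ V)).obj N := biprod.map fU fV ≫ mvg U V N
  have hf : f ≫ biprod.map fU fV = gV ≫ mvf U V N := by
    apply biprod.hom_ext
    · rw [Category.assoc, biprod.map_fst, biprod.lift_fst_assoc, Category.assoc, Category.assoc, mvf,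
        biprod.lift_fst, ← e1, e3, Category.assoc]
    · rw [Category.assoc, biprod.map_snd, biprod.lift_snd_assoc, Category.assoc, mvf, biprod.lift_snd,
        Preadditive.neg_comp, Preadditive.comp_neg, e2]
  have w : f ≫ g = 0 := by
    rw [← Category.assoc, hf, Category.assoc, mvf_mvg, Limits.comp_zero]
  have hS : (ShortComplex.mk f g w).ShortExact := by
    let e : ShortComplex.mk f g w ≅ mv U V N :=
      ShortComplex.isoMk (asIso gV) (biprod.mapIso (asIso fU) (asIso fV)) (Iso.refl _) hf.symm (by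
        change biprod.map fU fV ≫ mvg U V N = g ≫ 𝟙 _
        rw [Category.comp_id])
    exact ShortComplex.shortExact_of_iso e.symm (shortExact_mv U V N)
  obtain ⟨E⟩ := nonempty_equiv (k := k) (shortExact_mv U V M) hS F h
    (fun x => by
      have e5 : f = mvf U V M + ε ≫ (mapLE inf_le_left M ≫ biprod.inl) := by
        apply biprod.hom_ext
        · simp [f, mvf, Preadditive.add_comp]
        · simp [f, mvf, Preadditive.add_comp]
      rw [e5, Ext.mk₀_add, Ext.add_comp, ← Ext.mk₀_comp_mk₀_assoc, h1, add_zero])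
    (fun x => by
      have e5 : f = mvf U V M + ε ≫ (mapLE inf_le_left M ≫ biprod.inl) := by
        apply biprod.hom_ext
        · simp [f, mvf, Preadditive.add_comp]
        · simp [f, mvf, Preadditive.add_comp]
      rw [e5, Ext.mk₀_add, Ext.add_comp, ← Ext.mk₀_comp_mk₀_assoc, h2, add_zero])
  have j1 := isIso_inc_of_eq_top hUV M
  have j2 := isIso_inc_of_eq_top hUV N
  exact ⟨(preIso (k := k) (asIso (inc (U ⊔ V) M)) F m).trans (E.trans (preIso (k := k) (asIso (inc (U ⊔ V) N)) F m).symm)⟩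

end K953.ExtTwist
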