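import Groth.Prelude.Def_MultCurve
import Groth.Agent.MultCurve.K953.Basic
import Groth.Agent.CurvesB.SmoothCurveFacts

/-!
# Rings of sections of a primitive multiple curve

`i : C ⟶ X` a primitive multiple structure on an integral scheme `C`, `W` an affine open of `X`.
* `reg`: the elements of `Γ(X, W)` outside the ideal of `C` are nonzerodivisors;
* `isPrime`, `isDedekindDomain_quot`: the ideal of `C` over `W` is prime, with Dedekind quotient for a smooth curve `C`.
-/

set_option autoImplicit false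

universe u

open CategoryTheory CategoryTheory.Limits AlgebraicGeometry Opposite TopologicalSpace

namespace K953.PrimCurve

section Alg

variable {R : Type*} [CommRing R]

theorem alg_reg (z : R) (n : ℕ) (hz : z ^ n = 0) (hann : ∀ a, a * z ^ (n - 1) = 0 → a ∈ Ideal.span {z})
    (hp : (Ideal.span {z}).IsPrime) (x a : R) (hx : x ∉ Ideal.span {z}) (h : x * a = 0) : a = 0 := by
  have key : ∀ j ≤ n, ∃ b, a = z ^ j * b := by
    intro j
    induction j with
    | zero => exact fun _ => ⟨a, by simp⟩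
    | succ j ih =>
      intro hj
      obtain ⟨b, hb⟩ := ih (by omega)
      have h1 : (x * b) * z ^ (n - 1) = 0 := by
        have : n - 1 = j + (n - 1 - j) := by omega
        rw [this, pow_add]
        calc x * b * (z ^ j * z ^ (n - 1 - j)) = (x * (z ^ j * b)) * z ^ (n - 1 - j) := by ring
          _ = 0 := by rw [← hb, h, zero_mul]
      rcases hp.mem_or_mem (hann _ h1) with h2 | h2
      · exact absurd h2 hx
      · obtain ⟨c, rfl⟩ := Ideal.mem_span_singleton'.1 h2
        exact ⟨c, by rw [hb, pow_succ]; ring⟩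
  obtain ⟨b, hb⟩ := key n le_rfl
  rw [hb, hz, zero_mul]

/-- the annihilator condition passes to localizations -/
theorem ann_localization {S : Type*} [CommRing S] [Algebra R S] (f : R) [IsLocalization.Away f S] (z : R) (m : ℕ)
    (hann : ∀ a, a * z ^ m = 0 → a ∈ Ideal.span {z}) (b : S) (hb : b * (algebraMap R S z) ^ m = 0) :
    b ∈ Ideal.span {algebraMap R S z} := by
  obtain ⟨⟨c, u⟩, hc⟩ := IsLocalization.surj (Submonoid.powers f) b
  have hc : b * algebraMap R S u = algebraMap R S c := hc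
  have h1 : algebraMap R S (c * z ^ m) = algebraMap R S 0 := by
    rw [map_mul, map_pow, ← hc, map_zero]
    calc b * algebraMap R S u * algebraMap R S z ^ m = (b * algebraMap R S z ^ m) * algebraMap R S u := by ring
      _ = 0 := by rw [hb, zero_mul]
  obtain ⟨v, hv⟩ := (IsLocalization.eq_iff_exists (Submonoid.powers f) S).1 h1
  have h2 : (v * c : R) ∈ Ideal.span {z} := hann _ (by rw [mul_assoc, hv, mul_zero])
  obtain ⟨d, hd⟩ := Ideal.mem_span_singleton'.1 h2
  have hu : IsUnit (algebraMap R S (v * u : R)) := by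
    rw [map_mul]
    exact (IsLocalization.map_units S v).mul (IsLocalization.map_units S u)
  have h3 : algebraMap R S (v * u : R) * b ∈ Ideal.span {algebraMap R S z} := by
    rw [Ideal.mem_span_singleton']
    refine ⟨algebraMap R S d, ?_⟩
    rw [← map_mul, hd, map_mul, ← hc, map_mul]
    ring
  exact (Ideal.unit_mul_mem_iff_mem _ hu).1 h3

theorem isDedekindDomain_of_ringEquiv {S : Type*} [CommRing S] (e : R ≃+* S) [IsDedekindDomain R] :
    IsDedekindDomain S := by
  have : IsDomain S := e.symm.toMulEquiv.isDomain _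
  have : IsIntegrallyClosed S := IsIntegrallyClosed.of_equiv e
  have : IsNoetherianRing S := isNoetherianRing_of_ringEquiv R e
  have : Ring.DimensionLEOne S := Ring.DimensionLEOne.of_ringEquiv e.symm
  exact { }

end Alg

variable {C X : Scheme.{u}} (i : C ⟶ X) [IsClosedImmersion i]

theorem ideal_eq_ker {W : X.Opens} (hW : IsAffineOpen W) :
    i.ker.ideal ⟨W, hW⟩ = RingHom.ker (i.app W).hom := i.ker_apply ⟨W, hW⟩

theorem isPrime [IsIntegral C] {W : X.Opens} (hW : IsAffineOpen W) (hne : (i ⁻¹ᵁ W : C.Opens) ≠ ⊥) :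
    (i.ker.ideal ⟨W, hW⟩).IsPrime := by
  rw [ideal_eq_ker]
  have : Nonempty (i ⁻¹ᵁ W : C.Opens) := by
    obtain ⟨x, hx⟩ := (Opens.ne_bot_iff_nonempty _).1 hne
    exact ⟨⟨x, hx⟩⟩
  exact RingHom.ker_isPrime _

theorem reg [IsIntegral C] (n : ℕ) (h : MultCurve.IsPrimThick i n) {W : X.Opens} (hW : IsAffineOpen W)
    (x a : Γ(X, W)) (hx : x ∉ i.ker.ideal ⟨W, hW⟩) (hxa : x * a = 0) : a = 0 := by
  have hs : Surjective i := K953.MultBasic.surjective_of_ker_pow i n h.2.1
  refine X.IsSheaf.section_ext fun p hp => ?_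
  obtain ⟨U, hpU, z, hz, hann⟩ := h.2.2 p
  obtain ⟨f, g, hfg, hpf⟩ := exists_basicOpen_le_affine_inter U.2 hW p ⟨hpU, hp⟩
  have hVW : X.basicOpen f ≤ W := hfg ▸ X.basicOpen_le g
  have hVU : X.basicOpen f ≤ U := X.basicOpen_le f
  refine ⟨X.basicOpen f, hVW, hpf, ?_⟩
  have hV : IsAffineOpen (X.basicOpen f) := U.2.basicOpen f
  have hloc := U.2.isLocalization_basicOpen f
  rw [map_zero]
  have hI : i.ker.ideal ⟨X.basicOpen f, hV⟩ = Ideal.span {X.presheaf.map (homOfLE hVU).op z} := by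
    rw [← i.ker.map_ideal (U := ⟨X.basicOpen f, hV⟩) (V := U) hVU, hz, Ideal.map_span, Set.image_singleton]
    rfl
  have hne : (i ⁻¹ᵁ (X.basicOpen f) : C.Opens) ≠ ⊥ := by
    obtain ⟨q, rfl⟩ := hs.surj p
    exact (Opens.ne_bot_iff_nonempty _).2 ⟨q, hpf⟩
  have hprime := isPrime i hV hne
  have hzn : z ^ n = 0 := by
    have h1 : (i.ker ^ n).ideal U = ⊥ := by rw [h.2.1]; rfl
    have h2 : z ^ n ∈ (i.ker ^ n).ideal U := by
      change z ^ n ∈ (i.ker.ideal U) ^ n
      exact Ideal.pow_mem_pow (by rw [hz]; exact Ideal.mem_span_singleton_self z) n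
    rw [h1] at h2
    exact h2
  have hx' : X.presheaf.map (homOfLE hVW).op x ∉ i.ker.ideal ⟨X.basicOpen f, hV⟩ := by
    rw [ideal_eq_ker] at hx ⊢
    intro h0
    apply hx
    rw [RingHom.mem_ker] at h0 ⊢
    have : Nonempty (i ⁻¹ᵁ (X.basicOpen f) : C.Opens) := by
      obtain ⟨x, hx⟩ := (Opens.ne_bot_iff_nonempty _).1 hne
      exact ⟨⟨x, hx⟩⟩
    have h1 : Function.Injective (C.presheaf.map (homOfLE (i.preimage_mono hVW)).op) :=
      map_injective_of_isIntegral C (homOfLE (i.preimage_mono hVW))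
    apply h1
    rw [map_zero, ← h0]
    exact (ConcreteCategory.congr_hom (i.naturality (homOfLE hVW).op) x).symm
  rw [hI] at hprime hx'
  refine alg_reg (X.presheaf.map (homOfLE hVU).op z) n (by rw [← map_pow, hzn, map_zero])
    (fun b hb => ?_) hprime _ _ hx' (by rw [← map_mul, hxa, map_zero])
  exact ann_localization f z (n - 1) (fun a ha => hz ▸ hann a ha) b hb

/-- the quotient by the ideal of `C` -/
theorem isDedekindDomain_quot {k : Type u} [Field k] [IsIntegral C] (fX : C ⟶ Spec (CommRingCat.of k)) [Smooth fX]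
    (hdim : topologicalKrullDim C ≤ 1) {W : X.Opens} (hW : IsAffineOpen W) (hne : (i ⁻¹ᵁ W : C.Opens) ≠ ⊥) :
    IsDedekindDomain (Γ(X, W) ⧸ i.ker.ideal ⟨W, hW⟩) := by
  have : Nonempty (i ⁻¹ᵁ W : C.Opens) := by
    obtain ⟨x, hx⟩ := (Opens.ne_bot_iff_nonempty _).1 hne
    exact ⟨⟨x, hx⟩⟩
  have h1 : IsDedekindDomain Γ(C, i ⁻¹ᵁ W) :=
    Groth.Agent.CurvesB.SmoothCurveFacts.isDedekindDomain_sec fX hdim (hW.preimage i)
  let e : (Γ(X, W) ⧸ i.ker.ideal ⟨W, hW⟩) ≃+* Γ(C, i ⁻¹ᵁ W) :=
    (Ideal.quotEquivOfEq (ideal_eq_ker i hW)).trans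
      (RingHom.quotientKerEquivOfSurjective (f := (i.app W).hom) (i.app_surjective W hW))
  exact isDedekindDomain_of_ringEquiv e.symm

end K953.PrimCurve
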