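import Groth.Agent.MultCurve.K953.ExtGen
import Groth.Agent.MultCurve.K953.ExtTwist
import Groth.Agent.MultCurve.K953.ExtAffine
import Groth.Agent.MultCurve.K953.PrimCurve
import Groth.Agent.MultCurve.K953.DualDim
import Groth.Agent.Ega2.TensGen
import Groth.Agent.Pi1.H421.TwoAff

/-!
# Extension groups of twists by line bundles trivial on a member of the canonical filtration
-/

set_option autoImplicit false

universe w u

open CategoryTheory CategoryTheory.Limits AlgebraicGeometry Opposite TopologicalSpace CategoryTheory.Abelian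
open Groth.Agent Groth.Agent.Fdesc.LocGen Groth.Agent.CohqB.HomSheaf Groth.Agent.PerfC.ExtZero Groth.Agent.PerfA.TFMV

namespace K953.ExtTens

variable {X : Scheme.{u}}

/-- tensoring with a local section of `D` -/
noncomputable def tens (E : X.Modules) {D : X.Modules} {U : X.Opens} (t : Γ(D, U)) :
    Γ(homSheaf E (CohB1.tensorMod E D), U) :=
  mkSec (fun V hV => (Ega2.Tens.tmulHom E D V).flip (res D hV t)) (fun V W hV h m => by
    change Ega2.Tens.tmul (E.presheaf.map (homOfLE h).op m) (res D (h.trans hV) t) =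
      (CohB1.tensorMod E D).presheaf.map (homOfLE h).op (Ega2.Tens.tmul m (res D hV t))
    rw [Ega2.Tens.tmul_res]
    congr 1
    exact (res_res (M := D) hV h t).symm)

theorem comp_tens (E : X.Modules) {D : X.Modules} {U : X.Opens} (t : Γ(D, U)) (V : X.Opens) (hV : V ≤ U)
    (m : Γ(E, V)) : comp (tens E t) V hV m = Ega2.Tens.tmul m (res D hV t) := rfl

theorem comp_tens_bijective (E : X.Modules) {D : X.Modules} {U : X.Opens} {t : Γ(D, U)} (ht : IsGen t)
    (V : X.Opens) (hV : V ≤ U) : Function.Bijective (comp (tens E t) V hV) :=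
  Ega2.TensGen.tmul_gen_bijective (ht.res hV)

theorem isClosedImmersion_of_isPrimitive {k : Type u} [Field k] {C X : Scheme.{u}} {i : C ⟶ X}
    {f : X ⟶ Spec (CommRingCat.of k)} {n : ℕ} (h : MultCurve.IsPrimitive k i f n) : IsClosedImmersion i := h.1.1

/-- `E` and its twist by `D` have the same extension groups into any quasi-coherent module in degrees at least three. -/
theorem nonempty_twist (k : Type u) [Field k] (C X : Scheme.{u})
    [X.Over (Spec (CommRingCat.of k))] [IsProper (X ↘ (Spec (CommRingCat.of k)))] (i : C ⟶ X)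
    (n : ℕ) (hn : 2 ≤ n) (h : MultCurve.IsPrimitive k i (X ↘ (Spec (CommRingCat.of k))) n)
    (D : X.Modules) (hD : PicF.IsInvertible D)
    (hDtriv : Nonempty ((Scheme.Modules.pullback (MultCurve.memberι i (n - 1))).obj D ≅
      Coh.structureModule (MultCurve.member i (n - 1))))
    (E F : X.Modules) (hE : Coh.IsCoh E) (hF : Coh.IsQCoh F) [HasExt.{w} X.Modules] [Linear k X.Modules]
    (j : ℕ) (hj : 3 ≤ j) :
    Nonempty (Ext E F j ≃ₗ[k] Ext (CohB1.tensorMod E D) F j) := by
  have hci : IsClosedImmersion i := h.1.1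
  have hN : IsLocallyNoetherian X := LocallyOfFiniteType.isLocallyNoetherian (X ↘ (Spec (CommRingCat.of k)))
  have hc : CompactSpace X := QuasiCompact.compactSpace_of_compactSpace (X ↘ (Spec (CommRingCat.of k)))
  have : IsNoetherian X := ⟨⟩
  have : X.IsSeparated := by
    constructor
    rw [← Limits.terminal.comp_from (X ↘ (Spec (CommRingCat.of k)))]
    infer_instance
  have hCi : IsIntegral C := h.2.1
  have hsm : Smooth (i ≫ (X ↘ (Spec (CommRingCat.of k)))) := h.2.2.1
  have hdC : topologicalKrullDim C ≤ 1 := h.2.2.2.le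
  have hdX : topologicalKrullDim X ≤ 1 := by
    rw [← (K953.DualDim.isHomeomorph_of_pow i n h.1.2.1).topologicalKrullDim_eq]
    exact hdC
  obtain ⟨U, V, hU, hV, hW, hUV⟩ := Pi1.H421.TwoAff.twoAffine X hdX
  obtain ⟨tU, tV, s, gU, gV, hst, hs⟩ := K953.ExtGen.exists_gens i n hn h.1.2.1 D hD hDtriv hU hV hW
  obtain ⟨ε, hε1, hε2⟩ : ∃ ε : (TF (U ⊓ V)).obj E ⟶ (TF (U ⊓ V)).obj E,
      (∀ (V' : X.Opens) (hV' : V' ≤ U ⊓ V) (t : Γ((TF (U ⊓ V)).obj E, V')),
        (inc (U ⊓ V) E).app V' (ε.app V' t) =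
          X.presheaf.map (homOfLE hV').op s • (inc (U ⊓ V) E).app V' t) ∧
      ∀ q, 2 ≤ q → ∀ x : Ext ((TF (U ⊓ V)).obj E) F q, (Ext.mk₀ ε).comp x (zero_add q) = 0 := by
    by_cases hne : (i ⁻¹ᵁ (U ⊓ V) : C.Opens) = ⊥
    · have hbot : U ⊓ V = ⊥ := by
        have hsj := K953.MultBasic.surjective_of_ker_pow i n h.1.2.1
        rw [← not_not (a := U ⊓ V = ⊥)]
        intro h0
        obtain ⟨x, hx⟩ := (Opens.ne_bot_iff_nonempty _).1 h0
        obtain ⟨y, rfl⟩ := hsj.surj x
        exact (Opens.ne_bot_iff_nonempty _).2 ⟨y, hx⟩ hne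
      refine ⟨0, fun V' hV' t => ?_, fun q _ x => by rw [Ext.mk₀_zero, Ext.zero_comp]⟩
      exact res_ext E (ι := PEmpty.{1}) (fun i => i.elim) (fun i => i.elim)
        (fun x hx => absurd (hbot ▸ hV' hx : x ∈ (⊥ : X.Opens)) (fun h => h.elim)) (fun i => i.elim)
    · have hp := K953.PrimCurve.isPrime i hW hne
      have hd := K953.PrimCurve.isDedekindDomain_quot i (i ≫ (X ↘ (Spec (CommRingCat.of k)))) hdC hW hne
      have hNr : IsNoetherianRing Γ(X, U ⊓ V) := IsLocallyNoetherian.component_noetherian ⟨U ⊓ V, hW⟩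
      exact K953.ExtAffine.exists_smul (U ⊓ V) hW (i.ker.ideal ⟨U ⊓ V, hW⟩) s hs
        (fun x hx a ha => K953.PrimCurve.reg i n h.1 hW x a hx ha) E F hE hF
  refine ExtTwist.twist (k := k) hUV (tens E tU) (tens E tV) (fun W hW => comp_tens_bijective E gU W hW)
    (fun W hW => comp_tens_bijective E gV W hW) ε ?_ F (n := j - 1) (by omega) (hε2 _ (by omega)) (hε2 _ (by omega))
  intro W' hW' t
  rw [comp_tens, comp_tens, hε1 W' hW' t]
  have e1 : res D (hW'.trans inf_le_right) tV =
      (1 + X.presheaf.map (homOfLE hW').op s) • res D (hW'.trans inf_le_left) tU := by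
    rw [← res_res (M := D) inf_le_right hW' tV, hst, res_smul, res_res (M := D) inf_le_left hW' tU]
    congr 1
    rw [map_add, map_one]
    rfl
  have e2 : (inc (U ⊓ V) E).app W' t + X.presheaf.map (homOfLE hW').op s • (inc (U ⊓ V) E).app W' t =
      (1 + X.presheaf.map (homOfLE hW').op s) • (inc (U ⊓ V) E).app W' t := by
    rw [add_smul, one_smul]
  rw [e1, e2, Ega2.Tens.tmul_smul, Ega2.Tens.smul_tmul]

end K953.ExtTens
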