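import Groth.Agent.PerfA.TFMV
import Groth.Agent.CohqB.HomSheafMap
import Groth.Agent.MultCurve.K953.ExtKill

/-!
# Maps between extensions by zero from local homomorphisms

`TF U M` is the extension by zero of `M|_U`.  A section `h` over `U` of the sheaf of homomorphisms from `M` to `N` gives
a morphism `TF U M ⟶ TF U N` (`exists_ext`), determined by its action on sections over opens contained in `U`.
`twist`: if `M` and `N` are locally identified over two opens covering `X`, and the difference of the identifications acts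
trivially on the extension groups of `TF (U ⊓ V) M`, then `Ext^j(M, F)` and `Ext^j(N, F)` are isomorphic.
-/

set_option autoImplicit false

universe w u

open CategoryTheory CategoryTheory.Limits AlgebraicGeometry Opposite TopologicalSpace

namespace K953.ExtZ

open Groth.Agent Groth.Agent.PerfC.ExtZero Groth.Agent.PerfA.TFMV Groth.Agent.CohqB.HomSheaf

variable {X : Scheme.{u}} {U V : X.Opens} {M N P : X.Modules}

/-- morphisms out of an extension by zero are determined over the opens contained in `U` -/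
theorem tf_hom_ext {f g : (TF U).obj M ⟶ N}
    (h : ∀ (W : X.Opens) (_ : W ≤ U) (s : Γ((TF U).obj M, W)), f.app W s = g.app W s) : f = g := by
  rw [← sub_eq_zero]
  ext W s
  refine eq_zero_of_locZero U (LocZero.app (U := U) (f - g) (suppIn_T U M W s)) (V' := W ⊓ U) inf_le_left le_rfl ?_
  rw [PerfC.ExtZero.app_map]
  change (f - g).app (W ⊓ U) _ = 0
  rw [Scheme.Modules.Hom.sub_app]
  change f.app _ _ - g.app _ _ = 0
  rw [h _ inf_le_right, sub_self]

/-- `f` acts on sections over opens contained in `U` by `h` -/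
def Acts (h : Γ(homSheaf M N, U)) (f : (TF U).obj M ⟶ (TF U).obj N) : Prop :=
  ∀ (W : X.Opens) (hW : W ≤ U) (s : Γ((TF U).obj M, W)),
    (inc U N).app W (f.app W s) = comp h W hW ((inc U M).app W s)

theorem Acts.unique {h : Γ(homSheaf M N, U)} {f g : (TF U).obj M ⟶ (TF U).obj N} (hf : Acts h f) (hg : Acts h g) :
    f = g := by
  refine tf_hom_ext fun W hW s => ?_
  apply inc_app_injective U N W
  rw [hf W hW, hg W hW]

/-- the relation between a section of `TF U M` and its image -/
def Rel (h : Γ(homSheaf M N, U)) (W : X.Opens) (s : Γ((TF U).obj M, W)) (t : Γ((TF U).obj N, W)) : Prop :=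
  N.presheaf.map (homOfLE (inf_le_left : W ⊓ U ≤ W)).op ((inc U N).app W t) =
      comp h (W ⊓ U) inf_le_right (M.presheaf.map (homOfLE (inf_le_left : W ⊓ U ≤ W)).op ((inc U M).app W s))

theorem exists_sec (h : Γ(homSheaf M N, U)) (W : X.Opens) (s : Γ((TF U).obj M, W)) :
    ∃! t : Γ((TF U).obj N, W), Rel h W s t := by
  have hs := inc_app_mem U M W s
  obtain ⟨t₀, ht₀, ht₁⟩ := exists_extend U (N := N) (V := W) (V' := W ⊓ U) inf_le_left le_rfl
    (comp h (W ⊓ U) inf_le_right (M.presheaf.map (homOfLE (inf_le_left : W ⊓ U ≤ W)).op ((inc U M).app W s))) (by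
      intro x hx hxU
      obtain ⟨W', hW', hxW, e⟩ := hs x hx hxU
      refine ⟨W', hW', hxW, ?_⟩
      rw [← comp_map h _ inf_le_left, res_res M]
      rw [← res_res M hW' (inf_le_right : W ⊓ U ⊓ W' ≤ W'), e, map_zero, map_zero])
  obtain ⟨t, rfl⟩ := exists_incl_app U ht₀
  refine ⟨t, ht₁, fun t' ht' => ?_⟩
  have h1 : ∀ a b : Γ((TF U).obj N, W), Rel h W s a → Rel h W s b → a = b := by
    intro a b ha hb
    apply inc_app_injective U N W
    rw [← sub_eq_zero, ← map_sub]
    refine eq_zero_of_locZero U (inc_app_mem U N W (a - b)) (V' := W ⊓ U) inf_le_left le_rfl ?_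
    rw [map_sub, map_sub, sub_eq_zero]
    exact Eq.trans ha hb.symm
  exact h1 _ _ ht' ht₁

theorem exists_ext (h : Γ(homSheaf M N, U)) : ∃ f : (TF U).obj M ⟶ (TF U).obj N, Acts h f := by
  choose f hf hu using exists_sec h
  have hf : ∀ (W : X.Opens) (s : Γ((TF U).obj M, W)), Rel h W s (f W s) := hf
  have hu : ∀ (W : X.Opens) (s : Γ((TF U).obj M, W)) (t : Γ((TF U).obj N, W)), Rel h W s t → t = f W s := hu
  have hadd : ∀ (W : X.Opens) (s t : Γ((TF U).obj M, W)), f W (s + t) = f W s + f W t := by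
    intro W s t
    refine (hu W (s + t) (f W s + f W t) ?_).symm
    have h1 := hf W s
    have h2 := hf W t
    unfold Rel at h1 h2 ⊢
    rw [map_add, map_add, map_add, map_add, map_add, h1, h2]
  have hsmul : ∀ (W : X.Opens) (r : Γ(X, W)) (s : Γ((TF U).obj M, W)), f W (r • s) = r • f W s := by
    intro W r s
    refine (hu W (r • s) (r • f W s) ?_).symm
    have h1 := hf W s
    unfold Rel at h1 ⊢
    rw [Scheme.Modules.Hom.app_smul, Scheme.Modules.Hom.app_smul, Scheme.Modules.map_smul, Scheme.Modules.map_smul,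
      map_smul, h1]
  have hmap : ∀ (W W' : X.Opens) (hW : W' ≤ W) (s : Γ((TF U).obj M, W)),
      f W' (((TF U).obj M).presheaf.map (homOfLE hW).op s) = ((TF U).obj N).presheaf.map (homOfLE hW).op (f W s) := by
    intro W W' hW s
    refine (hu W' _ _ ?_).symm
    have h1 := hf W s
    unfold Rel at h1 ⊢
    rw [CohqB.HomSheaf.app_map, CohqB.HomSheaf.app_map, res_res, res_res,
      ← res_res N (inf_le_left : W ⊓ U ≤ W) (inf_le_inf hW le_rfl : W' ⊓ U ≤ W ⊓ U), h1,
      ← comp_map h _ (inf_le_inf hW le_rfl : W' ⊓ U ≤ W ⊓ U), res_res]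
  refine ⟨homMkSec _ _ (fun W => { toFun := f W, map_zero' := ?_, map_add' := hadd W }) hsmul hmap, ?_⟩
  · have h0 := hadd W 0 0
    rw [add_zero] at h0
    exact left_eq_add.1 h0
  · intro W hW s
    change (inc U N).app W (f W s) = _
    have h1 := hf W s
    unfold Rel at h1
    have h2 : W ≤ W ⊓ U := le_inf le_rfl hW
    have h3 := congrArg (N.presheaf.map (homOfLE h2).op) h1
    rw [res_res, res_self, ← comp_map, res_res, res_self] at h3
    exact h3

/-- restriction to a smaller open -/
theorem Acts.comp_mapLE {h : Γ(homSheaf M N, U)} {f : (TF U).obj M ⟶ (TF U).obj N} (hf : Acts h f) (hVU : V ≤ U)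
    {g : (TF V).obj M ⟶ (TF V).obj N} (hg : Acts ((homSheaf M N).presheaf.map (homOfLE hVU).op h) g) :
    g ≫ mapLE hVU N = mapLE hVU M ≫ f := by
  refine tf_hom_ext fun W hW s => ?_
  apply inc_app_injective U N W
  have e1 : ∀ (N : X.Modules) (t : Γ((TF V).obj N, W)), (inc U N).app W ((mapLE hVU N).app W t) = (inc V N).app W t := by
    intro N t
    have := congrArg (fun z : (TF V).obj N ⟶ N => z.app W t) (mapLE_inc hVU N)
    exact this
  have e2 : (inc U N).app W ((g ≫ mapLE hVU N).app W s) = (inc V N).app W (g.app W s) := e1 N _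
  have e3 : (inc U N).app W ((mapLE hVU M ≫ f).app W s) = comp h W (hW.trans hVU) ((inc V M).app W s) := by
    rw [← e1 M]
    exact hf W _ _
  rw [e2, e3, hg W hW]
  rfl

theorem acts_comp {h : Γ(homSheaf M N, U)} {h' : Γ(homSheaf N P, U)} {h'' : Γ(homSheaf M P, U)}
    {f : (TF U).obj M ⟶ (TF U).obj N} {f' : (TF U).obj N ⟶ (TF U).obj P} (hf : Acts h f) (hf' : Acts h' f')
    (H : ∀ (W : X.Opens) (hW : W ≤ U) (m : Γ(M, W)), comp h' W hW (comp h W hW m) = comp h'' W hW m) :
    Acts h'' (f ≫ f') := by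
  intro W hW s
  rw [← H W hW, ← hf W hW]
  exact hf' W hW _

theorem acts_id {h : Γ(homSheaf M M, U)} (H : ∀ (W : X.Opens) (hW : W ≤ U) (m : Γ(M, W)), comp h W hW m = m) :
    Acts h (𝟙 ((TF U).obj M)) := by
  intro W hW s
  rw [H]
  rfl

theorem isIso_of_bijective {h : Γ(homSheaf M N, U)} {f : (TF U).obj M ⟶ (TF U).obj N} (hf : Acts h f)
    (hb : ∀ (W : X.Opens) (hW : W ≤ U), Function.Bijective (comp h W hW)) : IsIso f := by
  let e : ∀ (W : X.Opens) (hW : W ≤ U), Γ(M, W) ≃ₗ[Γ(X, W)] Γ(N, W) := fun W hW =>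
    LinearEquiv.ofBijective (comp h W hW) (hb W hW)
  let h' : Γ(homSheaf N M, U) := mkSec (fun W hW => ((e W hW).symm : Γ(N, W) →ₗ[Γ(X, W)] Γ(M, W))) (by
    intro W W' hW hW' n
    obtain ⟨m, rfl⟩ := (e W hW).surjective n
    change (e W' _).symm (N.presheaf.map (homOfLE hW').op (comp h W hW m)) =
      M.presheaf.map (homOfLE hW').op ((e W hW).symm (e W hW m))
    rw [← comp_map, LinearEquiv.symm_apply_apply]
    exact (e W' (hW'.trans hW)).symm_apply_apply _)
  obtain ⟨g, hg⟩ := exists_ext h'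
  have e1 : f ≫ g = 𝟙 _ := by
    refine Acts.unique (h := mkSec (fun W hW => LinearMap.id) (fun _ _ _ _ _ => rfl)) (acts_comp hf hg ?_) (acts_id ?_)
    · intro W hW m
      exact (e W hW).symm_apply_apply m
    · intro W hW m
      rfl
  have e2 : g ≫ f = 𝟙 _ := by
    refine Acts.unique (h := mkSec (fun W hW => LinearMap.id) (fun _ _ _ _ _ => rfl)) (acts_comp hg hf ?_) (acts_id ?_)
    · intro W hW m
      exact (e W hW).apply_symm_apply m
    · intro W hW m
      rfl
  exact ⟨g, e1, e2⟩

end K953.ExtZ
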