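import Groth.Agent.MultCurve.K953.RibDiff
import Groth.Agent.MultCurve.K953.ExtMor
import Groth.Agent.Nrm16.K137.Basic

/-!
# Ribbons and extension classes

* `isDiffCompat_id`: the identity of `D`;
* `gMap_comp_gMap`, `gMap_id`: functoriality of the restricted differential;
* `conormal_gMap`: compatibility with the map of conormal sheaves.
-/

set_option autoImplicit false

universe w u

open CategoryTheory CategoryTheory.Limits AlgebraicGeometry Opposite TopologicalSpace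

namespace K953.RibIso

open OmegaSh
open Groth.Agent.UnramB.FirstOrderNbhd (SqZ)
open K583.Retract K583.DerAffine K583.DerFunct K583.ConSect K953.RibSec K953.RibHom K953.RibDiff

theorem isDiffCompat_id {D S : Scheme.{u}} {pD : D ⟶ S} {Ω : D.Modules} (d : Der pD Ω) :
    IsDiffCompat (𝟙 D) d d ((Scheme.Modules.pullbackId D).hom.app Ω) := by
  intro U s
  refine (K137.Basic.id_pullSect Ω U (d.app U s)).trans ?_
  congr 1

section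

variable {D C X Y S : Scheme.{u}} {i : D ⟶ C} {j : D ⟶ X} {f : D ⟶ Y} {pC : C ⟶ S} {pX : X ⟶ S}
  {pY : Y ⟶ S} {Ω₁ : C.Modules} {d₁ : Der pC Ω₁} {ΩX : X.Modules} {dX : Der pX ΩX}
  {ΩY : Y.Modules} {dY : Der pY ΩY}

theorem gMap_comp_gMap (hdX : IsUniversal dX) (hdY : IsUniversal dY) {g : C ⟶ X} {h : X ⟶ Y}
    (hg : i ≫ g = j) (hgS : g ≫ pX = pC) (hh : j ≫ h = f) (hhS : h ≫ pY = pX)
    (hgh : i ≫ g ≫ h = f) (hghS : (g ≫ h) ≫ pY = pC) :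
    gMap dX hdY hh hhS ≫ gMap d₁ hdX hg hgS = gMap d₁ hdY hgh hghS := by
  apply pull_ext hdY
  intro U a
  have h1 : (gMap dX hdY hh hhS ≫ gMap d₁ hdX hg hgS).app (f ⁻¹ᵁ U)
      (pS f ΩY U (f ⁻¹ᵁ U) le_rfl (dY.app U a)) =
      (gMap d₁ hdX hg hgS).app (f ⁻¹ᵁ U) ((gMap dX hdY hh hhS).app (f ⁻¹ᵁ U)
      (pS f ΩY U (f ⁻¹ᵁ U) le_rfl (dY.app U a))) := rfl
  have e0 : f ⁻¹ᵁ U ≤ i ⁻¹ᵁ (g ⁻¹ᵁ (h ⁻¹ᵁ U)) := le_pre hgh U
  rw [h1, gMap_app dX hdY hh hhS U a _ (le_pre hh U) le_rfl,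
    gMap_app d₁ hdX hg hgS _ _ _ e0, gMap_app d₁ hdY hgh hghS U a _ (le_pre hgh U) le_rfl]
  rfl

theorem gMap_id (hd₁ : IsUniversal d₁) (h : i ≫ 𝟙 C = i) (h' : 𝟙 C ≫ pC = pC) :
    gMap d₁ hd₁ h h' = 𝟙 _ := by
  apply pull_ext hd₁
  intro U a
  rw [gMap_app d₁ hd₁ h h' U a _ (le_pre h U) le_rfl]
  rfl

end

section

variable {D C C' S : Scheme.{u}} {i : D ⟶ C} [QuasiCompact i] {i' : D ⟶ C'} {pC : C ⟶ S}
  {pC' : C' ⟶ S}
  {Ω₁ : C.Modules} {d₁ : Der pC Ω₁} {Ω₁' : C'.Modules} {d₁' : Der pC' Ω₁'}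
  {φ : Omega.conormal i ⟶ (Scheme.Modules.pullback i).obj Ω₁}
  {φ' : Omega.conormal i' ⟶ (Scheme.Modules.pullback i').obj Ω₁'}

theorem conormal_gMap [QuasiCompact i'] (hd₁' : IsUniversal d₁') (hφ : IsConormalDiff i d₁ φ)
    (hφ' : IsConormalDiff i' d₁' φ') {g : C ⟶ C'} (hg : i ≫ g = i') (hgS : g ≫ pC' = pC)
    {α : (Scheme.Modules.pullback (𝟙 D)).obj (Omega.conormal i') ⟶ Omega.conormal i}
    (hα : IsConormalMap i i' g (𝟙 D) α) :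
    φ' ≫ gMap d₁ hd₁' hg hgS =
      ((Scheme.Modules.pullbackId D).inv.app (Omega.conormal i') ≫ α) ≫ φ := by
  apply K583.DerFunct.pull_hom_ext i'
  intro U s'
  have e0 : i' ⁻¹ᵁ U ≤ i ⁻¹ᵁ (g ⁻¹ᵁ U) := le_pre hg U
  -- left hand side
  have hL : (φ' ≫ gMap d₁ hd₁' hg hgS).app (i' ⁻¹ᵁ U) (conormalSect i' U s') =
      pS i Ω₁ (g ⁻¹ᵁ U) (i' ⁻¹ᵁ U) e0 (d₁.app _ (g.app U (idealSect i'.ker U s'))) := by
    rw [← gMap_app d₁ hd₁' hg hgS U _ (i' ⁻¹ᵁ U) e0 le_rfl, pS_self, ← hφ' U s']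
    rfl
  have h0 : i.app (g ⁻¹ᵁ U) (g.app U (idealSect i'.ker U s')) = 0 := by
    have h1 := app_idealSect i' U s'
    have h2 : i.appLE (g ⁻¹ᵁ U) (i ⁻¹ᵁ (g ⁻¹ᵁ U)) le_rfl (g.appLE U (g ⁻¹ᵁ U) le_rfl
        (idealSect i'.ker U s')) = i'.appLE U (i ⁻¹ᵁ (g ⁻¹ᵁ U)) (by rw [← hg]; exact le_rfl)
        (idealSect i'.ker U s') := by
      rw [appLE_appLE_apply]
      exact appLE_congr_apply hg _ _ _ _ _
    rw [Scheme.Hom.app_eq_appLE, Scheme.Hom.app_eq_appLE, h2]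
    have h3 : i'.appLE U (i ⁻¹ᵁ (g ⁻¹ᵁ U)) (by rw [← hg]; exact le_rfl)
        (idealSect i'.ker U s') = D.presheaf.map (homOfLE (by rw [← hg]; exact le_rfl :
          i ⁻¹ᵁ (g ⁻¹ᵁ U) ≤ i' ⁻¹ᵁ U)).op (i'.app U (idealSect i'.ker U s')) := rfl
    rw [h3, h1, map_zero]
  have hR : (((Scheme.Modules.pullbackId D).inv.app (Omega.conormal i') ≫ α) ≫ φ).app (i' ⁻¹ᵁ U)
      (conormalSect i' U s') =
      pS i Ω₁ (g ⁻¹ᵁ U) (i' ⁻¹ᵁ U) e0 (d₁.app _ (g.app U (idealSect i'.ker U s'))) := by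
    have h1 : (((Scheme.Modules.pullbackId D).inv.app (Omega.conormal i') ≫ α) ≫ φ).app
        (i' ⁻¹ᵁ U) (conormalSect i' U s') = φ.app (i' ⁻¹ᵁ U) (α.app (i' ⁻¹ᵁ U)
          (((Scheme.Modules.pullbackId D).inv.app (Omega.conormal i')).app (i' ⁻¹ᵁ U)
            (conormalSect i' U s'))) := rfl
    rw [h1, K137.Basic.id_inv]
    have h2 := hα.2 U s' (idLift i (g ⁻¹ᵁ U) _ h0) (idealSect_idLift i _ _ h0) (i' ⁻¹ᵁ U)
      (le_refl (i' ⁻¹ᵁ U)) e0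
    have h3 : ∀ (V : D.Opens) (h : V ≤ V) (x : Γ(Omega.conormal i, V)),
        (Omega.conormal i).presheaf.map (homOfLE h).op x = x := by
      intro V h x
      have : (Omega.conormal i).presheaf.map (homOfLE h).op = 𝟙 _ :=
        (Omega.conormal i).presheaf.map_id _
      rw [this]
      rfl
    have h4 : α.app (i' ⁻¹ᵁ U) (pullSect (𝟙 D) (Omega.conormal i') (i' ⁻¹ᵁ U)
        (conormalSect i' U s')) = cls i (g ⁻¹ᵁ U) (i' ⁻¹ᵁ U) e0 (idLift i (g ⁻¹ᵁ U) _ h0) := by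
      rw [cls_apply, ← h2]
      exact (h3 (i' ⁻¹ᵁ U) _ _).symm
    refine (congrArg (φ.app (i' ⁻¹ᵁ U)) h4).trans ?_
    rw [app_cls _ hφ, idealSect_idLift]
  exact hL.trans hR.symm

end

end K953.RibIso
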