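import Groth.Prelude.Def_MultCurve
import Groth.Agent.MultCurve.K953.Basic
import Groth.Agent.Lift.K695.DeformFin
import Groth.Agent.Coherent.K290.ExtLF
import Groth.Agent.CurvesC.TwoAffine
import Groth.Agent.Ega1.TensorRestrict
import Groth.Agent.Divis.IdealComap
import Groth.Agent.Flat2C.AffineThickening
import Groth.Agent.CohqA.IdealMod
import Groth.Agent.PerfA.AffVan

/-!
# Lifting vector bundles along nilpotent closed immersions of schemes covered by two affine opens

* `exists_lift`: if `P` is covered by two affine opens with affine intersection and `i : Y ⟶ P` is a closed immersion with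
  nilpotent ideal then every finite locally free module on `Y` is the restriction of one on `P`.
-/

set_option autoImplicit false

universe w u

open CategoryTheory CategoryTheory.Limits AlgebraicGeometry Opposite TopologicalSpace CategoryTheory.Abelian
open Groth.Agent
open scoped Groth.Agent.Dcoh.MonCat

namespace K953.VBLift

variable {X Y P : Scheme.{u}}

/-- `X` is covered by two affine opens with affine intersection -/
def TwoAff (X : Scheme.{u}) : Prop :=
  ∃ U V : X.Opens, IsAffineOpen U ∧ IsAffineOpen V ∧ IsAffineOpen (U ⊓ V) ∧ U ⊔ V = ⊤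

theorem TwoAff.of_isAffineHom (f : X ⟶ Y) [IsAffineHom f] (h : TwoAff Y) : TwoAff X := by
  obtain ⟨U, V, hU, hV, hW, hUV⟩ := h
  refine ⟨f ⁻¹ᵁ U, f ⁻¹ᵁ V, hU.preimage f, hV.preimage f, hW.preimage f, ?_⟩
  ext x
  have : f x ∈ U ⊔ V := by rw [hUV]; trivial
  exact ⟨fun _ => trivial, fun _ => this⟩

theorem TwoAff.of_thickening (i : X ⟶ Y) [IsClosedImmersion i] [Surjective i] (h : TwoAff X) : TwoAff Y := by
  obtain ⟨U, V, hU, hV, hW, hUV⟩ := h
  have hh : IsHomeomorph i := isHomeomorph_iff_isEmbedding_surjective.2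
    ⟨i.isClosedEmbedding.isEmbedding, Surjective.surj⟩
  have key : ∀ U : X.Opens, ∃ U' : Y.Opens, i ⁻¹ᵁ U' = U := fun U =>
    ⟨⟨i '' U, hh.isOpenMap _ U.2⟩, by
      ext x
      exact hh.injective.mem_set_image⟩
  obtain ⟨U', rfl⟩ := key U
  obtain ⟨V', rfl⟩ := key V
  refine ⟨U', V', Flat2C.AffineThickening.isAffineOpen_of_preimage i hU,
    Flat2C.AffineThickening.isAffineOpen_of_preimage i hV,
    Flat2C.AffineThickening.isAffineOpen_of_preimage i hW, ?_⟩
  exact Flat2C.AffineThickening.eq_of_preimage_eq i hUV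

theorem subsingleton_ext [HasExt.{w} X.Modules] (h : TwoAff X) (A B : X.Modules) (hA : FlatMod.IsFinLocFree A)
    (hB : Coh.IsQCoh B) (n : ℕ) (hn : 2 ≤ n) : Subsingleton (Ext.{w} A B n) := by
  obtain ⟨A', hA', ⟨h1⟩, ⟨h2⟩⟩ := K53.FlfAdj.exists_pairing_symm hA
  obtain ⟨e1⟩ := K53.FlfAdj.nonempty_ext.{u, w} A A' (Coh.structureModule X) B n
  have l : CohB1.tensorMod (Coh.structureModule X) A ≅ A :=
    (MonoidalCategoryStruct.leftUnitor A : MonoidalCategoryStruct.tensorObj (MonoidalCategoryStruct.tensorUnit X.Modules) A ≅ A)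
  have hT : Coh.IsQCoh (CohB1.tensorMod B A') :=
    Ega1.TensorRestrict.isQCoh_tensorMod _ _ hB (Ega2.QCohLocal.isQCoh_of_isFinLocFree hA')
  obtain ⟨U, V, hU, hV, hW, hUV⟩ := h
  have h3 := CurvesC.TwoAffine.subsingleton_of_two_le hU hV hW hUV _ hT n hn
  exact ((K290.ExtLF.extLeft l.symm B n).trans (e1.trans
    (Groth.Agent.CurvesC.ExtUnit.extHH (CohB1.tensorMod B A') n))).toEquiv.subsingleton

theorem ker_comap (j : X ⟶ Y) (f : Y ⟶ P) [IsClosedImmersion j] [IsClosedImmersion f] :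
    (j ≫ f).ker.comap f = j.ker := by
  have hp : IsPullback j (𝟙 X) f (j ≫ f) := by
    refine ⟨⟨by simp⟩, ⟨PullbackCone.IsLimit.mk _ (fun s => s.snd) (fun s => ?_) (fun s => ?_)
      (fun s m _ hm => ?_)⟩⟩
    · have := s.condition
      rw [← Category.assoc, cancel_mono f] at this
      exact this.symm
    · simp
    · simpa using hm
  rw [← Scheme.IdealSheafData.ker_fst_of_isClosedImmersion (j ≫ f) f]
  have e2 := Scheme.Hom.ker_comp_of_isIso hp.isoPullback.hom (pullback.fst f (j ≫ f))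
  rw [hp.isoPullback_hom_fst] at e2
  exact e2.symm

theorem hasExt (X : Scheme.{u}) : HasExt.{u} X.Modules := by
  have := Groth.Agent.PerfA.AffVan.enoughInjectives X
  exact hasExt_of_enoughInjectives _

theorem exists_lift_two (i : Y ⟶ P) [IsClosedImmersion i] (hP : TwoAff P) (hI : i.ker ^ 2 = ⊥) (E₀ : Y.Modules)
    (hE₀ : FlatMod.IsFinLocFree E₀) :
    ∃ E : P.Modules, FlatMod.IsFinLocFree E ∧ Nonempty ((Scheme.Modules.pullback i).obj E ≅ E₀) := by
  let I := i.ker
  let t : Y ⟶ I.subscheme := i.toImage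
  have ht : IsIso t := inferInstanceAs (IsIso i.toImage)
  have hti : t ≫ I.subschemeι = i := i.toImage_imageι
  let E₁ : I.subscheme.Modules := (Scheme.Modules.pullback (inv t)).obj E₀
  have hE₁ : FlatMod.IsFinLocFree E₁ := PerfB.FlatPull.isFinLocFree_pullback (inv t) hE₀
  have hx := hasExt I.subscheme
  obtain ⟨E, hE, ⟨e⟩⟩ := K695.DeformFin.exists_deformation hI hE₁ (subsingleton_ext (hP.of_isAffineHom I.subschemeι) _ _ hE₁
    (Ega1.TensorRestrict.isQCoh_tensorMod _ _ (FormalA.PullbackQC.isQCoh_pullback _ _ (CohqA.IdealMod.isQCoh_idealMod I))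
      (Ega2.QCohLocal.isQCoh_of_isFinLocFree hE₁)) 2 le_rfl)
  refine ⟨E, hE, ⟨(Scheme.Modules.pullbackCongr hti.symm).app E ≪≫ ((Scheme.Modules.pullbackComp t I.subschemeι).app E).symm ≪≫
    (Scheme.Modules.pullback t).mapIso e ≪≫ (Scheme.Modules.pullbackComp t (inv t)).app E₀ ≪≫
    (Scheme.Modules.pullbackCongr (IsIso.hom_inv_id t)).app E₀ ≪≫ (Scheme.Modules.pullbackId Y).app E₀⟩⟩

theorem exists_lift (m : ℕ) : ∀ {Y P : Scheme.{u}} (i : Y ⟶ P) [IsClosedImmersion i] (_ : TwoAff P) (_ : i.ker ^ m = ⊥)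
    (E₀ : Y.Modules) (_ : FlatMod.IsFinLocFree E₀),
    ∃ E : P.Modules, FlatMod.IsFinLocFree E ∧ Nonempty ((Scheme.Modules.pullback i).obj E ≅ E₀) := by
  induction m with
  | zero =>
    intro Y P i _ hP hI E₀ hE₀
    exact exists_lift_two i hP (le_bot_iff.1 (hI ▸ MultCurve.ker_pow_anti i (Nat.zero_le 2))) E₀ hE₀
  | succ m ih =>
    intro Y P i hi hP hI E₀ hE₀
    by_cases hm : m ≤ 1
    · exact exists_lift_two i hP (le_bot_iff.1 (hI ▸ MultCurve.ker_pow_anti i (by omega))) E₀ hE₀
    · have hm0 : m ≠ 0 := by omega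
      have hti := MultCurve.toMember_ι i m hm0
      have hci : IsClosedImmersion (MultCurve.toMember i m hm0) := by
        have : IsClosedImmersion (MultCurve.toMember i m hm0 ≫ MultCurve.memberι i m) := by rw [hti]; exact hi
        exact IsClosedImmersion.of_comp (MultCurve.toMember i m hm0) (MultCurve.memberι i m)
      have hk : (MultCurve.memberι i m).ker = i.ker ^ m := Scheme.IdealSheafData.ker_subschemeι _
      have h1 : (MultCurve.toMember i m hm0).ker ^ m = ⊥ := by
        rw [← ker_comap _ (MultCurve.memberι i m), hti, ← Divis.IdealComap.comap_pow, ← hk]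
        refine le_bot_iff.1 (Scheme.IdealSheafData.le_map_iff_comap_le.1 ?_)
        rw [Scheme.IdealSheafData.map_bot]
      have h2 : (MultCurve.memberι i m).ker ^ 2 = ⊥ := by
        rw [hk, ← pow_mul]
        exact le_bot_iff.1 (hI ▸ MultCurve.ker_pow_anti i (by omega))
      obtain ⟨E₁, hE₁, ⟨e₁⟩⟩ := ih (MultCurve.toMember i m hm0) (hP.of_isAffineHom (MultCurve.memberι i m)) h1 E₀ hE₀
      obtain ⟨E, hE, ⟨e⟩⟩ := exists_lift_two (MultCurve.memberι i m) hP h2 E₁ hE₁
      exact ⟨E, hE, ⟨(Scheme.Modules.pullbackCongr hti.symm).app E ≪≫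
        ((Scheme.Modules.pullbackComp _ (MultCurve.memberι i m)).app E).symm ≪≫
        (Scheme.Modules.pullback (MultCurve.toMember i m hm0)).mapIso e ≪≫ e₁⟩⟩

end K953.VBLift
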